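import Cfsg.Agent.Leech.Monomial
import Cfsg.Agent.Leech.SignGroup
import Cfsg.Agent.Leech.MonoElems
import Cfsg.Agent.Leech.Co1
import Cfsg.Agent.Compute.GolayPerm
import Cfsg.Agent.Compute.MathieuActions

/-!
The monomial elements of `Co₁`: sign changes numbered by code words, and coordinate permutations.
-/

set_option autoImplicit false

namespace Cfsg.Agent.Co1Out

open Cfsg Cfsg.Agent.Compute

/-- The image in `Co₁`. -/
abbrev toC : ↥Co0 →* Spor.Co1 := QuotientGroup.mk' (Subgroup.center ↥Co0)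

instance finite_co1 : Finite Spor.Co1 := by
  have := Leech.finite_co0
  exact Quotient.finite _

theorem card_co1 : Nat.card Spor.Co1 = 4157776806543360000 := Leech.simple_co1.2

theorem simple_co1 : IsSimpleGroup Spor.Co1 := Leech.simple_co1.1

theorem toC_eq_iff {a b : ↥Co0} : toC a = toC b ↔ b = a ∨ b = a * Leech.zneg := by
  rw [QuotientGroup.mk'_apply, QuotientGroup.mk'_apply, QuotientGroup.eq,
    ← SetLike.mem_coe, Leech.card_center_eq]
  simp only [Set.mem_insert_iff, Set.mem_singleton_iff]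
  constructor
  · rintro (h | h)
    · exact Or.inl (inv_mul_eq_one.1 h).symm
    · exact Or.inr (by rw [← h, mul_inv_cancel_left])
  · rintro (h | h) <;> subst h <;> simp

theorem permCo0_mul (σ τ : ↥M24) :
    Leech.permCo0 (σ * τ : ↥M24) (σ * τ).2 = Leech.permCo0 σ σ.2 * Leech.permCo0 τ τ.2 := by
  refine Subtype.ext (Equiv.ext fun v => Subtype.ext (funext fun i => ?_))
  show (v : GolayPt → ℤ) (((σ : Equiv.Perm GolayPt) * τ)⁻¹ i) = (v : GolayPt → ℤ) _
  rw [mul_inv_rev]
  rfl

/-- Coordinate permutations. -/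
def permHom : ↥M24 →* ↥Co0 := MonoidHom.mk' (fun σ => Leech.permCo0 σ σ.2) permCo0_mul

/-- Coordinate permutations in `Co₁`. -/
def Pm : ↥M24 →* Spor.Co1 := toC.comp permHom

/-- The word with a number. -/
noncomputable def word (k : ℕ) : GolayPt → ZMod 2 := decW (cw (k % 4096))

theorem word_mem (k : ℕ) : word k ∈ golayCode := decW_cw_mem _ (Nat.mod_lt _ (by norm_num))

theorem word_xor {a b : ℕ} (ha : a < 4096) (hb : b < 4096) : word (a ^^^ b) = word a + word b := by
  have h : a ^^^ b < 4096 := Nat.xor_lt_two_pow (n := 12) ha hb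
  rw [word, word, word, Nat.mod_eq_of_lt h, Nat.mod_eq_of_lt ha, Nat.mod_eq_of_lt hb, cw_xor, decW_xor]

theorem decW_inj {a b : ℕ} (ha : a < 2 ^ 24) (hb : b < 2 ^ 24) (h : decW a = decW b) : a = b := by
  refine (suppM_eq_iff ha hb).1 ?_
  rw [← support₂_decW, ← support₂_decW, h]

theorem word_inj {a b : ℕ} (ha : a < 4096) (hb : b < 4096) (h : word a = word b) : a = b := by
  rw [word, word, Nat.mod_eq_of_lt ha, Nat.mod_eq_of_lt hb] at h
  exact cw_injOn ha hb (decW_inj (cw_lt ha) (cw_lt hb) h)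

theorem word_full : word 2048 = 1 := by
  funext p
  have h : cw (2048 % 4096) = cw (golayCoeff.getD 23 0) := by decide +kernel
  rw [word, h]
  exact (one_eq p).symm

/-- A sign change of `Co₀`. -/
noncomputable def sign0 (k : ℕ) : ↥Co0 := Leech.signCo0 (word k) (word_mem k)

/-- A sign change of `Co₁`. -/
noncomputable def Sg (k : ℕ) : Spor.Co1 := toC (sign0 k)

theorem sign0_xor {a b : ℕ} (ha : a < 4096) (hb : b < 4096) : sign0 (a ^^^ b) = sign0 a * sign0 b :=
  (Leech.signCo0_congr (word_xor ha hb) _ (add_mem (word_mem a) (word_mem b))).trans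
    (Leech.signCo0_mul _ _ (word_mem a) (word_mem b)).symm

theorem Sg_xor {a b : ℕ} (ha : a < 4096) (hb : b < 4096) : Sg (a ^^^ b) = Sg a * Sg b := by
  rw [Sg, sign0_xor ha hb, map_mul]; rfl

theorem sign0_zero : sign0 0 = 1 := by
  have h := sign0_xor (a := 0) (b := 0) (by norm_num) (by norm_num)
  rw [Nat.xor_self] at h
  exact left_eq_mul.1 h

theorem Sg_zero : Sg 0 = 1 := by rw [Sg, sign0_zero, map_one]

theorem Sg_sq {a : ℕ} (ha : a < 4096) : Sg a * Sg a = 1 := by rw [← Sg_xor ha ha, Nat.xor_self, Sg_zero]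

theorem Sg_inv {a : ℕ} (ha : a < 4096) : (Sg a)⁻¹ = Sg a := inv_eq_of_mul_eq_one_right (Sg_sq ha)

theorem sign0_full : sign0 2048 = Leech.zneg := Leech.signCo0_congr word_full _ Leech.one_mem

theorem Sg_full : Sg 2048 = 1 := by
  rw [Sg, sign0_full]
  exact (QuotientGroup.eq_one_iff _).2 Leech.zneg_mem_center

theorem flip_check : allBelow 2048 (fun b => Nat.beq (Nat.xor b 2048) (Nat.add b 2048)) = true := by decide +kernel

theorem Sg_mod {a : ℕ} (ha : a < 4096) : Sg (a % 2048) = Sg a := by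
  by_cases h : a < 2048
  · rw [Nat.mod_eq_of_lt h]
  · obtain ⟨b, rfl⟩ : ∃ b, a = b + 2048 := ⟨a - 2048, by omega⟩
    have hb : b < 2048 := by omega
    have e : b + 2048 = b ^^^ 2048 := (Nat.beq_eq.mp (allBelow_eq_true.mp flip_check b hb)).symm
    rw [Nat.add_mod_right, Nat.mod_eq_of_lt hb]
    rw [e, Sg_xor (by omega) (by norm_num), Sg_full, mul_one]

/-- Reading off a monomial element. -/
theorem monomial_inj {a b : ℕ} (ha : a < 4096) (hb : b < 4096) {σ τ : ↥M24}
    (h : sign0 a * permHom σ = sign0 b * permHom τ) : a = b ∧ σ = τ := by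
  have key : ∀ q, ∀ i,
      (if word a q = 0 then (Pi.single i 8 : GolayPt → ℤ) ((σ : Equiv.Perm GolayPt)⁻¹ q)
        else -(Pi.single i 8 : GolayPt → ℤ) ((σ : Equiv.Perm GolayPt)⁻¹ q)) =
      (if word b q = 0 then (Pi.single i 8 : GolayPt → ℤ) ((τ : Equiv.Perm GolayPt)⁻¹ q)
        else -(Pi.single i 8 : GolayPt → ℤ) ((τ : Equiv.Perm GolayPt)⁻¹ q)) := by
    intro q i
    have := congrArg (fun g : ↥Co0 => ((g • Leech.oct i : leechLattice) : GolayPt → ℤ) q) h
    simpa [sign0, permHom, mul_smul, Leech.signCo0_apply, Leech.negOn, Leech.permCo0_apply, Leech.oct]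
      using this
  have hστ : ∀ q, (σ : Equiv.Perm GolayPt)⁻¹ q = (τ : Equiv.Perm GolayPt)⁻¹ q := by
    intro q
    by_contra hne
    have := key q ((σ : Equiv.Perm GolayPt)⁻¹ q)
    rw [Pi.single_eq_same, Pi.single_eq_of_ne (Ne.symm hne)] at this
    split_ifs at this <;> norm_num at this
  have hst : σ = τ := Subtype.ext (inv_injective (Equiv.ext hστ))
  refine ⟨word_inj ha hb (funext fun q => ?_), hst⟩
  have := key q ((σ : Equiv.Perm GolayPt)⁻¹ q)
  rw [← hστ q, Pi.single_eq_same] at this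
  revert this
  generalize word a q = x
  generalize word b q = y
  revert x y
  decide

end Cfsg.Agent.Co1Out
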