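import Cfsg.Agent.Co1Out.Code
import Cfsg.Agent.Core.Solvable

/-!
The sign changes are the only normal elementary abelian subgroup of order `2 ^ 11` of a Sylow 2-subgroup.
-/

set_option autoImplicit false

namespace Cfsg.Agent.Co1Out

open Cfsg Cfsg.Agent.Compute

theorem syl_le : rep24.chainGroup syl2FChain ≤ M24 := by
  rw [Rep.chainGroup, Rep.span, Subgroup.closure_le]
  rintro _ ⟨g, hg, rfl⟩
  exact (mem_M24_of_check (List.all_eq_true.1 syl2F_checks.2.1 g hg)).2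

/-- The Sylow subgroup of permutations. -/
noncomputable def Ks : Subgroup ↥M24 := (rep24.chainGroup syl2FChain).subgroupOf M24

theorem card_Ks : Nat.card Ks = 2 ^ 10 := by
  rw [Ks, Nat.card_congr (Subgroup.subgroupOfEquivOfLe syl_le).toEquiv,
    rep24.card_chainGroup _ syl2F_checks.1, syl2F_checks.2.2]

theorem exists_code {σ : ↥M24} (h : σ ∈ Ks) :
    ∃ c ∈ sylElems, rep24.Ok c ∧ rep24.den c = (σ : Equiv.Perm GolayPt) :=
  rep24.exists_elem syl2FChain syl2F_checks.1 (Subgroup.mem_subgroupOf.1 h)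

theorem sylow_card : Nat.card (Nm Ks) = 2 ^ (Nat.card Spor.Co1).factorization 2 := by
  have e : (Nat.card Spor.Co1).factorization 2 = 21 := by
    rw [card_co1, show (4157776806543360000 : ℕ) = 2 ^ 21 * 1982582476875 by norm_num,
      Nat.factorization_mul (by norm_num) (by norm_num), Nat.Prime.factorization_pow Nat.prime_two]
    simp [Nat.factorization_eq_zero_of_not_dvd]
  rw [e, card_Nm, card_Ks]
  norm_num

/-- A Sylow 2-subgroup of `Co₁`. -/
noncomputable def sylCo : Sylow 2 Spor.Co1 :=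
  haveI : Fact (Nat.Prime 2) := ⟨Nat.prime_two⟩
  Sylow.ofCard (Nm Ks) sylow_card

theorem coe_sylCo : (sylCo : Subgroup Spor.Co1) = Nm Ks := rfl

/-- An elementary abelian subgroup of order `2 ^ 11` normal in the Sylow subgroup is the group of signs. -/
theorem eq_Eg {A : Subgroup Spor.Co1} (hA : A ≤ Nm Ks) (hcomm : ∀ x ∈ A, ∀ y ∈ A, x * y = y * x)
    (hsq : ∀ x ∈ A, x * x = 1) (hcard : Nat.card A = 2048)
    (hnorm : ∀ x ∈ Nm Ks, ∀ a ∈ A, x * a * x⁻¹ ∈ A) : A = Eg := by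
  classical
  have : Fintype ↥M24 := Fintype.ofFinite _
  let B : Subgroup ↥M24 :=
    { carrier := {σ | σ ∈ Ks ∧ ∃ k < 4096, Sg k * Pm σ ∈ A}
      one_mem' := ⟨one_mem _, 0, by norm_num, by rw [Sg_zero, map_one, one_mul]; exact one_mem _⟩
      mul_mem' := by
        rintro σ τ ⟨hσ, a, ha, hσA⟩ ⟨hτ, b, hb, hτA⟩
        obtain ⟨b', hb', he⟩ := Pm_Sg σ hb
        refine ⟨mul_mem hσ hτ, a ^^^ b', xor_lt ha hb', ?_⟩
        rw [show Sg (a ^^^ b') * Pm (σ * τ) = Sg a * Pm σ * (Sg b * Pm τ) by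
          rw [Sg_xor ha hb', map_mul,
            show Sg a * Pm σ * (Sg b * Pm τ) = Sg a * (Pm σ * Sg b) * Pm τ by group, he]
          group]
        exact mul_mem hσA hτA
      inv_mem' := by
        rintro σ ⟨hσ, a, ha, hσA⟩
        obtain ⟨a', ha', he⟩ := Pm_Sg σ⁻¹ ha
        refine ⟨inv_mem hσ, a', ha', ?_⟩
        rw [← he, map_inv, show (Pm σ)⁻¹ * Sg a = ((Sg a)⁻¹ * Pm σ)⁻¹ by group, Sg_inv ha]
        exact inv_mem hσA }
  by_cases hB : ∀ σ ∈ B, σ = 1
  · refine Subgroup.eq_of_le_of_card_ge (fun x hx => ?_) (by rw [card_Eg, hcard])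
    obtain ⟨k, hk, σ, hσ, rfl⟩ := hA hx
    rw [hB σ ⟨hσ, k, hk, hx⟩, map_one, mul_one]
    exact Sg_mem hk
  exfalso
  -- the central involution lies in `B`
  have : Fact (Nat.Prime 2) := ⟨Nat.prime_two⟩
  have hKs : IsPGroup 2 Ks := IsPGroup.of_card card_Ks
  have : Group.IsNilpotent Ks := hKs.isNilpotent
  have hBK : ∀ σ ∈ B, σ ∈ Ks := fun σ h => h.1
  have : (B.subgroupOf Ks).Normal := ⟨by
    rintro ⟨b, hbK⟩ hb ⟨g, hg⟩
    obtain ⟨-, k, hk, hkA⟩ := Subgroup.mem_subgroupOf.1 hb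
    refine Subgroup.mem_subgroupOf.2 ⟨mul_mem (mul_mem hg hbK) (inv_mem hg), ?_⟩
    obtain ⟨k', hk', he⟩ := Pm_Sg g hk
    refine ⟨k', hk', ?_⟩
    have := hnorm _ (Pm_mem hg) _ hkA
    rwa [show Pm g * (Sg k * Pm b) * (Pm g)⁻¹ = (Pm g * Sg k) * Pm b * (Pm g)⁻¹ by group, he,
      show Sg k' * Pm g * Pm b * (Pm g)⁻¹ = Sg k' * Pm (g * b * g⁻¹) by
        rw [map_mul, map_mul, map_inv]; group] at this⟩
  obtain ⟨σ0, hσ0, hσ01⟩ : ∃ σ ∈ B, σ ≠ 1 := by
    push Not at hB; exact hB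
  obtain ⟨⟨c0, hc0K⟩, hc0, hc01⟩ : ∃ x ∈ B.subgroupOf Ks ⊓ Subgroup.center Ks, x ≠ 1 := by
    by_contra hcon
    push Not at hcon
    refine Agent.Core.inf_center_ne_bot (N := B.subgroupOf Ks) (fun h => hσ01 ?_)
      ((Subgroup.eq_bot_iff_forall _).2 hcon)
    have : (⟨σ0, hBK σ0 hσ0⟩ : Ks) ∈ B.subgroupOf Ks := Subgroup.mem_subgroupOf.2 hσ0
    rw [h, Subgroup.mem_bot] at this
    exact congrArg Subtype.val this
  obtain ⟨c, hc, hcok, hcden⟩ := exists_code hc0K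
  have hz : rep24.Ok zCode := rep24.okb_sound _ zCode_ok
  have hzden : rep24.den zCode = (c0 : Equiv.Perm GolayPt) := by
    have h := List.all_eq_true.1 centre_check c hc
    simp only [Bool.or_eq_true, Bool.not_eq_true'] at h
    rcases h with (h | h) | h
    · refine absurd (Subtype.ext (Subtype.ext ?_)) hc01
      rw [← hcden, den_eq_of_same hcok rep24.ok_one h, rep24.den_one]
      rfl
    · rw [← hcden, den_eq_of_same hcok hz h]
    · exfalso
      rw [← Bool.not_eq_true, List.all_eq_true] at h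
      refine h fun s hs => ?_
      have hs' := mem_M24_of_check (List.all_eq_true.1 syl2F_checks.2.1 s hs)
      refine cmB_of_commute hcok hs'.1 ?_
      have hsK : (⟨rep24.den s, hs'.2⟩ : ↥M24) ∈ Ks :=
        Subgroup.mem_subgroupOf.2 (rep24.den_mem_span hs)
      have := congrArg (fun x : Ks => ((x : ↥M24) : Equiv.Perm GolayPt))
        (Subgroup.mem_center_iff.1 hc0.2 ⟨_, hsK⟩)
      rw [hcden]
      exact this.symm
  have hz0 : c0 ∈ B := Subgroup.mem_subgroupOf.1 hc0.1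
  -- the kernel part
  have : Fintype B := Fintype.ofFinite _
  choose kσ hkσ hkσA using fun σ : B => σ.2.2
  let T : Finset (Equiv.Perm GolayPt) :=
    Finset.univ.image fun σ : B => ((σ : ↥M24) : Equiv.Perm GolayPt)
  let L : Finset ℕ := (Finset.range 2048).filter fun k => Sg k ∈ A
  have hTcomm : ∀ x ∈ T, ∀ y ∈ T, x * y = y * x := by
    intro x hx y hy
    obtain ⟨σ, -, rfl⟩ := Finset.mem_image.1 hx
    obtain ⟨τ, -, rfl⟩ := Finset.mem_image.1 hy
    obtain ⟨b', hb', he⟩ := Pm_Sg (σ : ↥M24) (hkσ τ)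
    obtain ⟨a', ha', he'⟩ := Pm_Sg (τ : ↥M24) (hkσ σ)
    have h := hcomm _ (hkσA σ) _ (hkσA τ)
    rw [show Sg (kσ σ) * Pm σ * (Sg (kσ τ) * Pm τ) = Sg (kσ σ) * (Pm σ * Sg (kσ τ)) * Pm τ by group,
      show Sg (kσ τ) * Pm τ * (Sg (kσ σ) * Pm σ) = Sg (kσ τ) * (Pm τ * Sg (kσ σ)) * Pm σ by group, he, he',
      show Sg (kσ σ) * (Sg b' * Pm σ) * Pm τ = (Sg (kσ σ) * Sg b') * (Pm σ * Pm τ) by group,
      show Sg (kσ τ) * (Sg a' * Pm τ) * Pm σ = (Sg (kσ τ) * Sg a') * (Pm τ * Pm σ) by group,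
      ← Sg_xor (hkσ σ) hb', ← Sg_xor (hkσ τ) ha', ← map_mul, ← map_mul] at h
    exact congrArg Subtype.val (Pm_eq_Sg (xor_lt (hkσ σ) hb') (xor_lt (hkσ τ) ha') h).1
  have hLfix : ∀ k ∈ L, ∀ g, rep24.Ok g → rep24.den g ∈ T → fixB g k = true := by
    intro k hk g hg hgT
    obtain ⟨hk1, hk2⟩ := Finset.mem_filter.1 hk
    obtain ⟨σ, -, hσ⟩ := Finset.mem_image.1 hgT
    refine fixB_of_commute hg hσ.symm (Finset.mem_range.1 hk1) ?_
    have h := hcomm _ (hkσA σ) _ hk2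
    have h1 : k < 4096 := by have := Finset.mem_range.1 hk1; omega
    rw [← mul_assoc, Sg_comm h1 (hkσ σ), mul_assoc, mul_assoc] at h
    exact mul_left_cancel h
  have hmain : Nat.card A ≤ T.card * L.card := by
    have hT : T.card = Nat.card B := by
      rw [Finset.card_image_of_injective _ (fun a b h => Subtype.ext (Subtype.ext h)), Nat.card_eq_fintype_card]
      rfl
    rw [hT, ← Nat.card_eq_finsetCard L, ← Nat.card_prod]
    refine Nat.card_le_card_of_surjective (fun p : B × L => (⟨Sg p.2.1 * (Sg (kσ p.1) * Pm p.1.1),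
      mul_mem (Finset.mem_filter.1 p.2.2).2 (hkσA p.1)⟩ : A)) ?_
    rintro ⟨x, hx⟩
    obtain ⟨k, hk, σ, hσ, rfl⟩ := hA hx
    let s : B := ⟨σ, hσ, k, hk, hx⟩
    have hd : k ^^^ kσ s < 4096 := xor_lt hk (hkσ s)
    have hin : Sg ((k ^^^ kσ s) % 2048) ∈ A := by
      rw [Sg_mod hd, Sg_xor hk (hkσ s)]
      have := mul_mem hx (inv_mem (hkσA s))
      rwa [show Sg k * Pm σ * (Sg (kσ s) * Pm s.1)⁻¹ = Sg k * (Sg (kσ s))⁻¹ by
        show Sg k * Pm σ * (Sg (kσ s) * Pm σ)⁻¹ = _; group, Sg_inv (hkσ s)] at this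
    refine ⟨(s, ⟨(k ^^^ kσ s) % 2048, Finset.mem_filter.2
      ⟨Finset.mem_range.2 (Nat.mod_lt _ (by norm_num)), hin⟩⟩), Subtype.ext ?_⟩
    show Sg ((k ^^^ kσ s) % 2048) * (Sg (kσ s) * Pm σ) = Sg k * Pm σ
    rw [Sg_mod hd, Sg_xor hk (hkσ s), mul_assoc, ← mul_assoc (Sg (kσ s)), Sg_sq (hkσ s), one_mul]
  have hzT : rep24.den zCode ∈ T := by
    rw [hzden]; exact Finset.mem_image.2 ⟨⟨c0, hz0⟩, Finset.mem_univ _, rfl⟩
  have key := smallB_sound T hTcomm L hLfix 8 [rep24.one, zCode] firstCands firstFix small_check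
    List.mem_cons_self ?_ ?_ ?_
  · omega
  · intro g hg
    simp only [List.mem_append, List.mem_cons, List.not_mem_nil, or_false] at hg
    rcases hg with (rfl | rfl) | hg
    · exact rep24.ok_one
    · exact hz
    · obtain ⟨hg, -⟩ := List.mem_filter.1 hg
      exact chainElems_ok syl2FChain syl2F_checks.1 g hg
  · intro x hx
    obtain ⟨σ, -, rfl⟩ := Finset.mem_image.1 hx
    obtain ⟨g, hg, hgok, hgden⟩ := exists_code σ.2.1
    cases h1 : sameB g rep24.one
    · cases h2 : sameB g zCode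
      · refine ⟨g, List.mem_append_right _ (List.mem_filter.2 ⟨hg, ?_⟩), hgden⟩
        have hσT : rep24.den g ∈ T := by rw [hgden]; exact hx
        have hsq' : rep24.den g * rep24.den g = 1 := by
          obtain ⟨b', hb', he⟩ := Pm_Sg (σ : ↥M24) (hkσ σ)
          have h := hsq _ (hkσA σ)
          rw [show Sg (kσ σ) * Pm σ * (Sg (kσ σ) * Pm σ) = Sg (kσ σ) * (Pm σ * Sg (kσ σ)) * Pm σ by group, he,
            show Sg (kσ σ) * (Sg b' * Pm σ) * Pm σ = (Sg (kσ σ) * Sg b') * (Pm σ * Pm σ) by group,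
            ← Sg_xor (hkσ σ) hb', ← map_mul, ← one_mul (1 : Spor.Co1)] at h
          rw [hgden]
          have e := (Pm_eq_Sg (b := 0) (τ := 1) (xor_lt (hkσ σ) hb') (by norm_num) (by
            rw [h, Sg_zero, map_one])).1
          exact congrArg Subtype.val e
        rw [sqB_of_sq hgok hsq', h1, h2, cmB_of_commute hgok hz (hTcomm _ hσT _ hzT)]
        rfl
      · exact ⟨zCode, by simp, (den_eq_of_same hgok hz h2).symm.trans hgden⟩
    · exact ⟨rep24.one, by simp, (den_eq_of_same hgok rep24.ok_one h1).symm.trans hgden⟩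
  · intro k hk
    refine List.mem_filter.2 ⟨List.mem_range.2 (Finset.mem_range.1 (Finset.mem_filter.1 hk).1), ?_⟩
    exact hLfix k hk _ hz hzT
where
  chainElems_ok : ∀ (Ls : List Level), rep24.checkChain Ls = true → ∀ g ∈ rep24.chainElems Ls, rep24.Ok g := by
    intro Ls
    induction Ls with
    | nil => intro _ g hg; simp [Rep.chainElems] at hg; subst hg; exact rep24.ok_one
    | cons L Ls ih =>
      intro hc g hg
      rw [rep24.checkChain_cons, Bool.and_eq_true] at hc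
      obtain ⟨j, -, hg⟩ := List.mem_flatMap.1 hg
      obtain ⟨t, ht, rfl⟩ := List.mem_map.1 hg
      exact rep24.ok_mul _ _ ((rep24.levelOK_of_check hc.1).entry_all j).1 (ih hc.2 t ht)

end Cfsg.Agent.Co1Out
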