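import Cfsg.Agent.Compute.GolayPerm
import Cfsg.Agent.Compute.Syl2Normalizer

/-!
Finite checks on the action of a Sylow 2-subgroup of `M24` on the code modulo the all-ones word: every
elementary abelian subgroup through the central involution fixes too little to reach order `2 ^ 11`.
-/

set_option autoImplicit false
set_option maxRecDepth 100000

namespace Cfsg.Agent.Co1Out

open Cfsg Cfsg.Agent.Compute

/-- The image of word number `k` under a coded permutation. -/
noncomputable def aK (g k : ℕ) : ℕ := decK (imgMask g (cw k))

/-- Two codes act alike. -/
noncomputable def sameB (a b : ℕ) : Bool :=
  allBelow 24 fun i => Nat.beq (rep24.act a i) (rep24.act b i)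

/-- A code squares to the identity. -/
noncomputable def sqB (a : ℕ) : Bool :=
  allBelow 24 fun i => Nat.beq (rep24.act a (rep24.act a i)) i

/-- Two codes commute. -/
noncomputable def cmB (a b : ℕ) : Bool :=
  allBelow 24 fun i => Nat.beq (rep24.act a (rep24.act b i)) (rep24.act b (rep24.act a i))

/-- The word is fixed modulo the all-ones word. -/
noncomputable def fixB (g k : ℕ) : Bool := Nat.beq (Nat.mod (aK g k) 2048) k

/-- Not in a list, as maps. -/
noncomputable def newB (z : ℕ) (span : List ℕ) : Bool :=
  List.rec (motive := fun _ => Bool) true (fun s _ r => !(sameB z s) && r) span

/-- The recursion over the possible next elements. -/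
noncomputable def loopB (rec : List ℕ → List ℕ → List ℕ → Bool) (span F : List ℕ) : List ℕ → Bool :=
  List.rec (motive := fun _ => Bool) true fun y rest r =>
    (fun span' => rec span' (rest.filter fun z => cmB z y && newB z span') (F.filter (fixB y)))
      (span ++ span.map fun s => rep24.mul s y) && r

/-- No elementary abelian group inside `span ∪ cands` reaches the bound. -/
noncomputable def smallB : ℕ → List ℕ → List ℕ → List ℕ → Bool :=
  fun fuel => Nat.rec (motive := fun _ => List ℕ → List ℕ → List ℕ → Bool)
    (fun _ _ _ => false)
    (fun _ rec span cands F =>
      Nat.blt (span.length * F.length) 2048 &&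
        (Nat.blt ((span.length + cands.length) * F.length) 2048 || loopB rec span F cands)) fuel

/-- The central involution of the Sylow subgroup. -/
def zCode : ℕ := 0xbae957b6289ba44b1cd0524ac18820

/-- The elements of the Sylow subgroup. -/
noncomputable def sylElems : List ℕ := rep24.chainElems syl2FChain

/-- The involutions commuting with the central one. -/
noncomputable def firstCands : List ℕ :=
  sylElems.filter fun a => sqB a && !(sameB a rep24.one) && !(sameB a zCode) && cmB a zCode

/-- The words fixed by the central involution. -/
noncomputable def firstFix : List ℕ := (List.range 2048).filter (fixB zCode)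

theorem centre_check : sylElems.all (fun a =>
    sameB a rep24.one || sameB a zCode || !((topGens syl2FChain).all (cmB a))) = true := by decide +kernel

theorem small_check : smallB 8 [rep24.one, zCode] firstCands firstFix = true := by decide +kernel

theorem decK_check : allBelow 4096 (fun k => Nat.beq (decK (cw k)) k) = true := by decide +kernel

theorem zCode_ok : rep24.okb zCode = true := by decide +kernel

end Cfsg.Agent.Co1Out
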