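import Cfsg.Agent.Co1Out.Code
import Cfsg.Agent.Compute.MathieuActions

/-!
The named permutations and their action on the numbered sign changes.
-/

set_option autoImplicit false
set_option maxRecDepth 100000

namespace Cfsg.Agent.Co1Out

open Cfsg Cfsg.Agent.Compute

/-- The codes: translation, negative inverse, cube twist, doubling. -/
def cd : Fin 4 → ℕ :=
  ![0xb82d5a4e5183dcd62d4941cc520c41, 0x5883388a1c8f5140b46cd317aed7,
    0xbba8ab116d7c52899d90286a219a40, 0xbd6717b56939461b52507314831040]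

theorem cd_check : ∀ i : Fin 4, inM24B (cd i) = true := by decide +kernel

theorem cd_ok (i : Fin 4) : rep24.Ok (cd i) := (mem_M24_of_check (cd_check i)).1

/-- The permutations. -/
noncomputable def gp (i : Fin 4) : ↥M24 := ⟨rep24.den (cd i), (mem_M24_of_check (cd_check i)).2⟩

theorem gp_closure : Subgroup.closure ({gp 0, gp 1, gp 2} : Set ↥M24) = ⊤ := by
  apply Subgroup.map_injective (f := M24.subtype) Subtype.val_injective
  rw [MonoidHom.map_closure, ← MonoidHom.range_eq_map, Subgroup.range_subtype]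
  have h : (M24.subtype : ↥M24 →* Equiv.Perm GolayPt) '' ({gp 0, gp 1, gp 2} : Set ↥M24) =
      {Equiv.optionCongr (Equiv.addRight (1 : ZMod 23)), projInv, cubeTwist} := by
    rw [← den_shift, ← den_projInv, ← den_cubeTwist, Set.image_insert_eq, Set.image_insert_eq,
      Set.image_singleton]
    rfl
  rw [h, m24_eq_closure]

/-- The code of a word in the permutations. -/
noncomputable def wcode : List (Fin 4) → ℕ
  | [] => rep24.one
  | i :: l => rep24.mul (cd i) (wcode l)

theorem wcode_spec : ∀ l : List (Fin 4),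
    rep24.Ok (wcode l) ∧ rep24.den (wcode l) = ((l.map gp).prod : ↥M24)
  | [] => ⟨rep24.ok_one, by rw [show wcode [] = rep24.one from rfl, rep24.den_one]; rfl⟩
  | i :: l => by
    obtain ⟨h1, h2⟩ := wcode_spec l
    refine ⟨rep24.ok_mul _ _ (cd_ok i) h1, ?_⟩
    rw [show wcode (i :: l) = rep24.mul (cd i) (wcode l) from rfl, rep24.den_mul _ _ (cd_ok i) h1, h2,
      List.map_cons, List.prod_cons]
    rfl

theorem word_eq {l l' : List (Fin 4)} (h : sameB (wcode l) (wcode l') = true) :
    (l.map gp).prod = (l'.map gp).prod :=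
  Subtype.ext (by rw [← (wcode_spec l).2, ← (wcode_spec l').2, den_eq_of_same (wcode_spec l).1 (wcode_spec l').1 h])

/-- The fixed word of the doubling map. -/
noncomputable def dd : Spor.Co1 := Sg 1

theorem fix_shift_check : allBelow 2048 (fun k => Nat.beq k 0 || !(fixB (cd 0) k)) = true := by decide +kernel

theorem fix_double_check : allBelow 2048 (fun k => Nat.beq k 0 || Nat.beq k 1 || !(fixB (cd 3) k)) = true := by
  decide +kernel

theorem rel_check : sameB (wcode [3, 0]) (wcode [0, 0, 3]) = true ∧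
    sameB (wcode [1, 3]) (wcode (List.replicate 10 3 ++ [1])) = true ∧
    sameB (wcode [2, 3]) (wcode (List.replicate 3 3 ++ [2])) = true ∧
    sameB (wcode (List.replicate 23 0)) (wcode []) = true ∧
    sameB (wcode (List.replicate 11 3)) (wcode []) = true ∧
    sameB (wcode (List.replicate 5 2)) (wcode []) = true ∧
    fixB (cd 2) 1 = true ∧
    sameB (wcode ((List.replicate 7 [(1 : Fin 4), 0, 2, 2]).flatten)) (wcode []) = true := by decide +kernel

theorem step_check : ∀ i : Fin 10, Nat.mod (aK (cd 0) (2 ^ (i : ℕ))) 2048 = 2 ^ ((i : ℕ) + 1) := by decide +kernel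

/-- The exponent accumulated by a power of a twisted permutation. -/
noncomputable def iterK (g : ℕ) : ℕ → ℕ :=
  fun n => Nat.rec (motive := fun _ => ℕ) 0 (fun _ k => Nat.mod (Nat.xor 1 (aK g k)) 4096) n

theorem iter_check : iterK (wcode [1, 0, 2, 2]) 7 % 2048 ≠ 0 := by decide +kernel

theorem iter_spec {g : ℕ} (hg : rep24.Ok g) {σ : ↥M24} (hσ : rep24.den g = σ) (n : ℕ) :
    iterK g n < 4096 ∧ (dd * Pm σ) ^ n = Sg (iterK g n) * Pm (σ ^ n) := by
  induction n with
  | zero => exact ⟨show 0 < 4096 by norm_num, by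
      rw [pow_zero, pow_zero, show iterK g 0 = 0 from rfl, Sg_zero, map_one, one_mul]⟩
  | succ n ih =>
    obtain ⟨h1, h2⟩ := ih
    obtain ⟨h3, h4⟩ := conj_Sg hg hσ h1
    have hlt : 1 ^^^ aK g (iterK g n) < 4096 := xor_lt (by norm_num) h3
    have e : iterK g (n + 1) = 1 ^^^ aK g (iterK g n) := Nat.mod_eq_of_lt hlt
    rw [e]
    refine ⟨hlt, ?_⟩
    rw [pow_succ', h2, dd, Sg_xor (by norm_num) h3, pow_succ', map_mul,
      show Sg 1 * Pm σ * (Sg (iterK g n) * Pm (σ ^ n)) = Sg 1 * (Pm σ * Sg (iterK g n)) * Pm (σ ^ n) by group,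
      h4]
    group

theorem Eg_fix_shift {x : Spor.Co1} (hx : x ∈ Eg) (h : Pm (gp 0) * x = x * Pm (gp 0)) : x = 1 := by
  obtain ⟨k, hk, rfl⟩ := mem_Eg.1 hx
  have h2 := allBelow_eq_true.mp fix_shift_check k hk
  rw [fixB_of_commute (cd_ok 0) (σ := gp 0) rfl hk h] at h2
  simp only [Bool.not_true, Bool.or_false, Nat.beq_eq] at h2
  rw [h2, Sg_zero]

theorem Eg_fix_double {x : Spor.Co1} (hx : x ∈ Eg) (h : Pm (gp 3) * x = x * Pm (gp 3)) : x = 1 ∨ x = dd := by
  obtain ⟨k, hk, rfl⟩ := mem_Eg.1 hx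
  have h2 := allBelow_eq_true.mp fix_double_check k hk
  rw [fixB_of_commute (cd_ok 3) (σ := gp 3) rfl hk h] at h2
  simp only [Bool.not_true, Bool.or_false, Bool.or_eq_true, Nat.beq_eq] at h2
  rcases h2 with e | e <;> subst e
  · exact Or.inl Sg_zero
  · exact Or.inr rfl

theorem dd_ne : dd ≠ 1 := fun h => by
  rw [dd, ← Sg_zero] at h
  exact absurd (Sg_injOn (by norm_num) (by norm_num) h) (by norm_num)

theorem dd_mem : dd ∈ Eg := Sg_mem (by norm_num)

theorem fixed_commute {g k : ℕ} (hg : rep24.Ok g) {σ : ↥M24} (hσ : rep24.den g = σ) (hk : k < 2048)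
    (h : fixB g k = true) : Pm σ * Sg k = Sg k * Pm σ := by
  obtain ⟨h1, h2⟩ := conj_Sg hg hσ (show k < 4096 by omega)
  have e : aK g k % 2048 = k := Nat.beq_eq.mp h
  rw [h2, ← Sg_mod h1, e]

end Cfsg.Agent.Co1Out
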