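import Cfsg.Agent.Co1Out.Normal
import Cfsg.Agent.Co1Out.Points
import Cfsg.Agent.S2064
import Cfsg.Prelude.Def_KGroupFacts

/-!
An automorphism preserving the sign changes fixes the monomial group pointwise after an inner correction.
-/

set_option autoImplicit false

namespace Cfsg.Agent.Co1Out

open Cfsg Cfsg.Agent.Compute

theorem aut_M24_inner (α : MulAut ↥M24) : ∃ g : ↥M24, MulAut.conj g = α := by
  obtain ⟨hsub, -⟩ := Nat.card_eq_one_iff_unique.1 S2064.result
  have h := hsub.elim (QuotientGroup.mk' (Inn ↥M24) α) 1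
  exact (QuotientGroup.eq_one_iff α).1 h

theorem cj_apply (g x : Spor.Co1) : cj g x = g * x * g⁻¹ := rfl

theorem exists_perm_adjust (ψ : MulAut Spor.Co1) (hE : ∀ x ∈ Eg, ψ x ∈ Eg) (hN : ∀ x ∈ Nm ⊤, ψ x ∈ Nm ⊤) :
    ∃ g ∈ Nm ⊤, ∀ σ : ↥M24, (cj g * ψ) (Pm σ) * (Pm σ)⁻¹ ∈ Eg := by
  choose k hk f _ hkf using fun σ : ↥M24 => hN (Pm σ) (Pm_mem (Subgroup.mem_top σ))
  have fmul : ∀ σ τ, f (σ * τ) = f σ * f τ := by
    intro σ τ
    obtain ⟨b', hb', he⟩ := Pm_Sg (f σ) (hk τ)
    have h := map_mul ψ (Pm σ) (Pm τ)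
    rw [← map_mul, hkf, hkf σ, hkf τ,
      show Sg (k σ) * Pm (f σ) * (Sg (k τ) * Pm (f τ)) = Sg (k σ) * (Pm (f σ) * Sg (k τ)) * Pm (f τ) by group,
      he, show Sg (k σ) * (Sg b' * Pm (f σ)) * Pm (f τ) = (Sg (k σ) * Sg b') * (Pm (f σ) * Pm (f τ)) by group,
      ← Sg_xor (hk σ) hb', ← map_mul] at h
    exact (Pm_eq_Sg (hk _) (xor_lt (hk σ) hb') h).1
  let F : ↥M24 →* ↥M24 := MonoidHom.mk' f fmul
  have hF : Function.Injective F := by
    refine (injective_iff_map_eq_one F).2 fun σ hσ => ?_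
    have h1 : ψ (Pm σ) ∈ Eg := ⟨k σ, hk σ, f σ, by rw [show f σ = 1 from hσ]; exact one_mem _, hkf σ⟩
    have : Finite Eg := inferInstance
    have hs : Function.Surjective (fun x : Eg => (⟨ψ x, hE x x.2⟩ : Eg)) :=
      Finite.injective_iff_surjective.1 fun a b h => Subtype.ext (ψ.injective (congrArg Subtype.val h))
    obtain ⟨⟨y, hy⟩, hye⟩ := hs ⟨_, h1⟩
    have hy' : y = Pm σ := ψ.injective (congrArg Subtype.val hye)
    obtain ⟨a, ha, rfl⟩ := mem_Eg.1 hy
    refine ((Pm_eq_Sg (a := a) (b := 0) (σ := 1) (τ := σ) (by omega) (by norm_num) ?_).1).symm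
    rw [map_one, mul_one, Sg_zero, one_mul, hy']
  have hb : Function.Bijective F := ⟨hF, (Finite.injective_iff_surjective.1 hF)⟩
  obtain ⟨g, hg⟩ := aut_M24_inner (MulEquiv.ofBijective F hb)
  refine ⟨Pm g⁻¹, Pm_mem (Subgroup.mem_top _), fun σ => ?_⟩
  have hfσ : f σ = g * σ * g⁻¹ := (DFunLike.congr_fun hg σ).symm
  obtain ⟨k', hk', he⟩ := Pm_Sg g⁻¹ (hk σ)
  refine ⟨k', hk', 1, one_mem _, ?_⟩
  rw [map_one, mul_one, MulAut.mul_apply, cj_apply, hkf, hfσ,
    show Pm g⁻¹ * (Sg (k σ) * Pm (g * σ * g⁻¹)) * (Pm g⁻¹)⁻¹ * (Pm σ)⁻¹ =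
      (Pm g⁻¹ * Sg (k σ)) * Pm (g * σ * g⁻¹) * (Pm g⁻¹)⁻¹ * (Pm σ)⁻¹ by group, he,
    map_mul, map_mul, map_inv]
  group

theorem pow_relation {n : ℕ} {a b : Fin 4}
    (h : sameB (wcode [a, b]) (wcode (List.replicate n b ++ [a])) = true) : gp a * gp b = gp b ^ n * gp a := by
  have e := word_eq h
  rw [List.map_append, List.map_replicate, List.prod_append, List.prod_replicate] at e
  simpa using e

/-- Correct by a sign change: the automorphism then fixes the whole monomial group. -/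
theorem exists_fix (ψ : MulAut Spor.Co1) (hE : ∀ x ∈ Eg, ψ x ∈ Eg)
    (hP : ∀ σ : ↥M24, ψ (Pm σ) * (Pm σ)⁻¹ ∈ Eg) :
    ∃ g ∈ Eg, ∀ x ∈ Nm ⊤, (cj g * ψ) x = x := by
  have conjE : ∀ σ : ↥M24, ∀ x ∈ Eg, Pm σ * x * (Pm σ)⁻¹ ∈ Eg := fun σ x hx =>
    (Subgroup.mem_normalizer_iff.1 (Eg_normal_in (Pm_mem (Subgroup.mem_top σ))) x).1 hx
  have Ecomm : ∀ x ∈ Eg, ∀ y ∈ Eg, x * y = y * x := fun x hx y hy => by
    obtain ⟨a, ha, rfl⟩ := mem_Eg.1 hx
    obtain ⟨b, hb, rfl⟩ := mem_Eg.1 hy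
    exact Sg_comm (by omega) (by omega)
  -- the translation
  obtain ⟨g, hg, hgh⟩ : ∃ g ∈ Eg, (cj g * ψ) (Pm (gp 0)) = Pm (gp 0) := by
    let Φ : Eg → Eg := fun x => ⟨(x : Spor.Co1)⁻¹ * (Pm (gp 0) * x * (Pm (gp 0))⁻¹),
      mul_mem (inv_mem x.2) (conjE _ _ x.2)⟩
    have hΦ : Function.Injective Φ := by
      intro x y hxy
      have h := congrArg Subtype.val hxy
      simp only [Φ] at h
      have hd : (y : Spor.Co1) * (x : Spor.Co1)⁻¹ = 1 := by
        refine Eg_fix_shift (mul_mem y.2 (inv_mem x.2)) ?_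
        have h' : (y : Spor.Co1) * (x : Spor.Co1)⁻¹ * (Pm (gp 0) * x * (Pm (gp 0))⁻¹) =
            Pm (gp 0) * y * (Pm (gp 0))⁻¹ := by
          rw [mul_assoc, h, mul_inv_cancel_left]
        calc Pm (gp 0) * ((y : Spor.Co1) * (x : Spor.Co1)⁻¹)
            = (Pm (gp 0) * y * (Pm (gp 0))⁻¹) * (Pm (gp 0) * x * (Pm (gp 0))⁻¹)⁻¹ * Pm (gp 0) := by group
          _ = _ := by rw [← h']; group
      exact Subtype.ext (mul_inv_eq_one.1 hd).symm
    obtain ⟨⟨e, he⟩, hee⟩ := Finite.injective_iff_surjective.1 hΦ ⟨_, hP (gp 0)⟩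
    refine ⟨e, he, ?_⟩
    have h := congrArg Subtype.val hee
    simp only [Φ] at h
    rw [MulAut.mul_apply, cj_apply,
      show ψ (Pm (gp 0)) = e⁻¹ * (Pm (gp 0) * e * (Pm (gp 0))⁻¹) * Pm (gp 0) by rw [h]; group]
    group
  refine ⟨g, hg, ?_⟩
  set χ : MulAut Spor.Co1 := cj g * ψ with hχ
  have hχE : ∀ x ∈ Eg, χ x ∈ Eg := fun x hx => by
    rw [MulAut.mul_apply, cj_apply]
    exact mul_mem (mul_mem hg (hE x hx)) (inv_mem hg)
  have hχP : ∀ σ : ↥M24, χ (Pm σ) * (Pm σ)⁻¹ ∈ Eg := fun σ => by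
    rw [MulAut.mul_apply, cj_apply, show g * ψ (Pm σ) * g⁻¹ * (Pm σ)⁻¹ =
      g * (ψ (Pm σ) * (Pm σ)⁻¹) * (Pm σ * g⁻¹ * (Pm σ)⁻¹) by group]
    exact mul_mem (mul_mem hg (hP σ)) (conjE σ _ (inv_mem hg))
  -- the doubling map
  have hm : χ (Pm (gp 3)) = Pm (gp 3) := by
    set e := χ (Pm (gp 3)) * (Pm (gp 3))⁻¹ with he
    have hem : χ (Pm (gp 3)) = e * Pm (gp 3) := by rw [he]; group
    have hrel : gp 3 * gp 0 = gp 0 ^ 2 * gp 3 := by
      have := word_eq rel_check.1
      simpa [pow_two, mul_assoc] using this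
    have h1 := congrArg χ (congrArg Pm hrel)
    simp only [map_mul, map_pow, hem, hgh] at h1
    have hcomm : e * Pm (gp 0) ^ 2 = Pm (gp 0) ^ 2 * e := by
      have h2 : Pm (gp 3) * Pm (gp 0) = Pm (gp 0) ^ 2 * Pm (gp 3) := by rw [← map_mul, hrel, map_mul, map_pow]
      rw [mul_assoc, h2, ← mul_assoc, ← mul_assoc] at h1
      exact mul_right_cancel h1
    have h23 : Pm (gp 0) ^ 23 = 1 := by
      have := word_eq rel_check.2.2.2.1
      rw [List.map_replicate, List.prod_replicate, List.map_nil, List.prod_nil] at this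
      rw [← map_pow, this, map_one]
    have hh : Pm (gp 0) = (Pm (gp 0) ^ 2) ^ 12 := by
      rw [← pow_mul, show 2 * 12 = 23 + 1 from rfl, pow_add, h23, one_mul, pow_one]
    have : e = 1 := Eg_fix_shift (hχP _) (by
      have : Commute e (Pm (gp 0)) := by rw [hh]; exact Commute.pow_right hcomm 12
      exact this.eq.symm)
    rw [hem, this, one_mul]
  have hdd : χ dd = dd := by
    have hc : Pm (gp 3) * dd = dd * Pm (gp 3) := by
      refine fixed_commute (cd_ok 3) rfl (by norm_num) ?_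
      decide +kernel
    have hc' := congrArg χ hc
    rw [map_mul, map_mul, hm] at hc'
    rcases Eg_fix_double (hχE _ dd_mem) hc' with e | e
    · exact absurd (χ.map_eq_one_iff.1 e) dd_ne
    · exact e
  have h11 : Pm (gp 3) ^ 11 = 1 := by
    have := word_eq rel_check.2.2.2.2.1
    rw [List.map_replicate, List.prod_replicate, List.map_nil, List.prod_nil] at this
    rw [← map_pow, this, map_one]
  -- the other generators
  have split : ∀ (t : Fin 4) (n l : ℕ), gp t * gp 3 = gp 3 ^ n * gp t → (n * l) % 11 = 1 →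
      χ (Pm (gp t)) = Pm (gp t) ∨ χ (Pm (gp t)) = dd * Pm (gp t) := by
    intro t n l hrel hnl
    set e := χ (Pm (gp t)) * (Pm (gp t))⁻¹ with he
    have het : χ (Pm (gp t)) = e * Pm (gp t) := by rw [he]; group
    have h1 := congrArg χ (congrArg Pm hrel)
    simp only [map_mul, map_pow, het, hm] at h1
    have h2 : Pm (gp t) * Pm (gp 3) = Pm (gp 3) ^ n * Pm (gp t) := by rw [← map_mul, hrel, map_mul, map_pow]
    rw [mul_assoc, h2, ← mul_assoc, ← mul_assoc] at h1
    have hcomm : Commute e (Pm (gp 3) ^ n) := mul_right_cancel h1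
    have hh : Pm (gp 3) = (Pm (gp 3) ^ n) ^ l := by
      rw [← pow_mul, pow_eq_pow_mod _ h11, hnl, pow_one]
    have hc : Commute e (Pm (gp 3)) := by rw [hh]; exact hcomm.pow_right l
    rcases Eg_fix_double (hχP _) hc.eq.symm with e1 | e1
    · left; rw [het, show e = 1 from e1, one_mul]
    · right; rw [het, show e = dd from e1]
  have hk : χ (Pm (gp 2)) = Pm (gp 2) := by
    rcases split 2 3 4 (pow_relation rel_check.2.2.1) rfl with h | h
    · exact h
    exfalso
    have h5 : Pm (gp 2) ^ 5 = 1 := by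
      have := word_eq rel_check.2.2.2.2.2.1
      rw [List.map_replicate, List.prod_replicate, List.map_nil, List.prod_nil] at this
      rw [← map_pow, this, map_one]
    have hc : Commute dd (Pm (gp 2)) :=
      (fixed_commute (cd_ok 2) (σ := gp 2) rfl (by norm_num) rel_check.2.2.2.2.2.2.1).symm
    have := congrArg χ h5
    rw [map_one, map_pow, h, hc.mul_pow, h5, mul_one] at this
    have hd : dd * dd = 1 := Sg_sq (by norm_num)
    rw [pow_succ, show (4 : ℕ) = 2 * 2 from rfl, pow_mul, pow_two dd, hd, one_pow, one_mul] at this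
    exact dd_ne this
  have ht : χ (Pm (gp 1)) = Pm (gp 1) := by
    rcases split 1 10 10 (pow_relation rel_check.2.1) rfl with h | h
    · exact h
    exfalso
    set w := gp 1 * gp 0 * gp 2 * gp 2 with hw
    have hwd : rep24.den (wcode [1, 0, 2, 2]) = (w : Equiv.Perm GolayPt) := by
      rw [(wcode_spec _).2]; simp [hw, mul_assoc]
    have h7 : w ^ 7 = 1 := by
      have := word_eq rel_check.2.2.2.2.2.2.2
      rw [List.map_flatten, List.prod_flatten, List.map_replicate, List.map_replicate, List.prod_replicate,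
        List.map_nil, List.prod_nil] at this
      simpa [hw, mul_assoc] using this
    obtain ⟨hlt, hit⟩ := iter_spec (wcode_spec _).1 hwd 7
    have e : χ (Pm w) = dd * Pm w := by
      simp only [hw, map_mul, h, hgh, hk]
      group
    have := congrArg χ (congrArg Pm h7)
    rw [map_pow, map_pow, e, map_one, map_one, hit, h7, map_one, mul_one, ← Sg_zero] at this
    have key := Sg_injOn hlt (by norm_num) this
    rw [Nat.zero_mod] at key
    exact iter_check key
  -- the fixed subgroup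
  let Fx : Subgroup Spor.Co1 := χ.toMonoidHom.eqLocus (MonoidHom.id _)
  have hFP : ∀ σ : ↥M24, Pm σ ∈ Fx := by
    intro σ
    have hle : (⊤ : Subgroup ↥M24) ≤ Fx.comap Pm := by
      rw [← gp_closure, Subgroup.closure_le]
      rintro x (rfl | rfl | rfl)
      exacts [hgh, ht, hk]
    exact hle (Subgroup.mem_top σ)
  have h2pow : ∀ i : ℕ, i ≤ 10 → Sg (2 ^ i) ∈ Fx := by
    intro i
    induction i with
    | zero => intro _; exact hdd
    | succ i ih =>
      intro hi
      have hlt : 2 ^ i < 2048 := lt_of_lt_of_le (Nat.pow_lt_pow_right (by norm_num) (show i < 11 by omega)) (by norm_num)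
      obtain ⟨h1, h2⟩ := conj_Sg (cd_ok 0) (σ := gp 0) rfl (show 2 ^ i < 4096 by omega)
      have hs : Nat.mod (aK (cd 0) (2 ^ i)) 2048 = 2 ^ (i + 1) := step_check ⟨i, by omega⟩
      rw [← hs, show Nat.mod (aK (cd 0) (2 ^ i)) 2048 = aK (cd 0) (2 ^ i) % 2048 from rfl, Sg_mod h1,
        ← mul_inv_eq_iff_eq_mul.2 h2]
      exact mul_mem (mul_mem (hFP _) (ih (by omega))) (inv_mem (hFP _))
  have hSg : ∀ n, n ≤ 11 → ∀ k < 2 ^ n, Sg k ∈ Fx := by
    intro n
    induction n with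
    | zero =>
      intro _ k hk
      rw [show k = 0 by simpa using hk, Sg_zero]; exact one_mem _
    | succ n ih =>
      intro hn k hk
      by_cases hkn : k < 2 ^ n
      · exact ih (by omega) k hkn
      · have hlow : k ^^^ 2 ^ n < 2 ^ n := by
          apply Nat.lt_pow_two_of_testBit
          intro j hj
          rw [Nat.testBit_xor, Nat.testBit_two_pow]
          rcases eq_or_lt_of_le hj with rfl | hj'
          · rw [Nat.testBit_eq_decide_div_mod_eq]
            have : k / 2 ^ n = 1 := Nat.div_eq_of_lt_le (by omega) (by rw [pow_succ] at hk; omega)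
            simp [this]
          · have : k.testBit j = false :=
              Nat.testBit_lt_two_pow (lt_of_lt_of_le hk (Nat.pow_le_pow_right (by norm_num) hj'))
            simp [this, Nat.ne_of_lt hj']
        have h2 : 2 ^ n < 4096 := lt_of_le_of_lt (Nat.pow_le_pow_right (by norm_num) (show n ≤ 11 by omega)) (by norm_num)
        rw [show k = (k ^^^ 2 ^ n) ^^^ 2 ^ n by simp [Nat.xor_assoc], Sg_xor (by omega) h2]
        exact mul_mem (ih (by omega) _ hlow) (h2pow n (by omega))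
  intro x hx
  obtain ⟨a, ha, σ, -, rfl⟩ := mem_Nm.1 hx
  have := mul_mem (hSg 11 le_rfl (a % 2048) (Nat.mod_lt _ (by norm_num))) (hFP σ)
  rw [Sg_mod ha] at this
  exact this

end Cfsg.Agent.Co1Out
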