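import Cfsg.Agent.Co1Out.Monomial
import Cfsg.Agent.Co1Out.Check
import Cfsg.Agent.Compute.M24Check

/-!
Coded permutations acting on the numbered sign changes.
-/

set_option autoImplicit false

namespace Cfsg.Agent.Co1Out

open Cfsg Cfsg.Agent.Compute

theorem imgMask_lt {g m : ℕ} (hg : rep24.Ok g) : imgMask g m < 2 ^ 24 := by
  refine Nat.lt_pow_two_of_testBit _ fun j hj => ?_
  by_contra h
  rw [Bool.not_eq_false] at h
  obtain ⟨i, hi, -, he⟩ := (testBit_imgMask_aux g m j 24).1 h
  have := rep24.act_lt g i hg hi
  change getField 5 g i < 24 at this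
  omega

theorem decK_cw {k : ℕ} (hk : k < 4096) : decK (cw k) = k :=
  Nat.beq_eq.mp (allBelow_eq_true.mp decK_check k hk)

theorem conj_code {g : ℕ} (hg : rep24.Ok g) {σ : ↥M24} (hσ : rep24.den g = σ) {k : ℕ} (hk : k < 4096) :
    aK g k < 4096 ∧ permHom σ * sign0 k * (permHom σ)⁻¹ = sign0 (aK g k) := by
  obtain ⟨k', hk', he, hw⟩ := exists_conj σ hk
  have h : decW (cw k') = decW (imgMask g (cw k)) := by
    rw [← decW_comp_symm hg, hσ]
    have := hw
    rw [word, word, Nat.mod_eq_of_lt hk', Nat.mod_eq_of_lt hk] at this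
    rw [this]
    rfl
  have e : cw k' = imgMask g (cw k) := decW_inj (cw_lt hk') (imgMask_lt hg) h
  have e2 : aK g k = k' := by rw [aK, ← e, decK_cw hk']
  rw [e2]
  exact ⟨hk', he⟩

theorem conj_Sg {g : ℕ} (hg : rep24.Ok g) {σ : ↥M24} (hσ : rep24.den g = σ) {k : ℕ} (hk : k < 4096) :
    aK g k < 4096 ∧ Pm σ * Sg k = Sg (aK g k) * Pm σ := by
  obtain ⟨h1, h2⟩ := conj_code hg hσ hk
  refine ⟨h1, ?_⟩
  rw [mul_inv_eq_iff_eq_mul] at h2
  exact (map_mul toC _ _).symm.trans ((congrArg toC h2).trans (map_mul toC _ _))

theorem Sg_injOn {a b : ℕ} (ha : a < 4096) (hb : b < 4096) (h : Sg a = Sg b) : a % 2048 = b % 2048 :=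
  (Pm_eq_Sg ha hb (σ := 1) (τ := 1) (by rw [map_one, mul_one, mul_one, h])).2

/-- A commuting word is fixed. -/
theorem fixB_of_commute {g : ℕ} (hg : rep24.Ok g) {σ : ↥M24} (hσ : rep24.den g = σ) {k : ℕ}
    (hk : k < 2048) (h : Pm σ * Sg k = Sg k * Pm σ) : fixB g k = true := by
  obtain ⟨h1, h2⟩ := conj_Sg hg hσ (show k < 4096 by omega)
  have := Sg_injOn h1 (show k < 4096 by omega) (mul_right_cancel (h2.symm.trans h))
  rw [Nat.mod_eq_of_lt hk] at this
  show Nat.beq (Nat.mod (aK g k) 2048) k = true
  rw [Nat.beq_eq]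
  exact this

theorem den_eq_of_same {a b : ℕ} (ha : rep24.Ok a) (hb : rep24.Ok b) (h : sameB a b = true) :
    rep24.den a = rep24.den b := by
  refine Equiv.ext fun p => ?_
  refine ptIdx_injective ?_
  rw [ptIdx_den ha, ptIdx_den hb]
  exact Nat.beq_eq.mp (allBelow_eq_true.mp h _ (ptIdx_lt p))

theorem same_of_den_eq {a b : ℕ} (ha : rep24.Ok a) (hb : rep24.Ok b) (h : rep24.den a = rep24.den b) :
    sameB a b = true :=
  allBelow_eq_true.mpr fun i hi => Nat.beq_eq.mpr (by
    have e : rep24.den a • rep24.pt i = rep24.den b • rep24.pt i := by rw [h]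
    rw [rep24.act_spec _ _ ha hi, rep24.act_spec _ _ hb hi] at e
    exact rep24.pt_inj _ _ (rep24.act_lt _ _ ha hi) (rep24.act_lt _ _ hb hi) e)

theorem cmB_of_commute {a b : ℕ} (ha : rep24.Ok a) (hb : rep24.Ok b)
    (h : rep24.den a * rep24.den b = rep24.den b * rep24.den a) : cmB a b = true :=
  allBelow_eq_true.mpr fun i hi => Nat.beq_eq.mpr (by
    have e : (rep24.den a * rep24.den b) • rep24.pt i = (rep24.den b * rep24.den a) • rep24.pt i := by rw [h]
    rw [mul_smul, mul_smul, rep24.act_spec _ _ hb hi, rep24.act_spec _ _ ha hi,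
      rep24.act_spec _ _ ha (rep24.act_lt _ _ hb hi), rep24.act_spec _ _ hb (rep24.act_lt _ _ ha hi)] at e
    exact rep24.pt_inj _ _ (rep24.act_lt _ _ ha (rep24.act_lt _ _ hb hi))
      (rep24.act_lt _ _ hb (rep24.act_lt _ _ ha hi)) e)

theorem sqB_of_sq {a : ℕ} (ha : rep24.Ok a) (h : rep24.den a * rep24.den a = 1) : sqB a = true :=
  allBelow_eq_true.mpr fun i hi => Nat.beq_eq.mpr (by
    have e : (rep24.den a * rep24.den a) • rep24.pt i = rep24.pt i := by rw [h, one_smul]
    rw [mul_smul, rep24.act_spec _ _ ha hi, rep24.act_spec _ _ ha (rep24.act_lt _ _ ha hi)] at e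
    exact rep24.pt_inj _ _ (rep24.act_lt _ _ ha (rep24.act_lt _ _ ha hi)) hi e)

theorem newB_false {z : ℕ} (hz : rep24.Ok z) {span : List ℕ} (hs : ∀ s ∈ span, rep24.Ok s)
    (h : newB z span = false) : ∃ s ∈ span, rep24.den z = rep24.den s := by
  induction span with
  | nil => exact absurd h (by simp [newB])
  | cons s span ih =>
    have e : newB z (s :: span) = (!(sameB z s) && newB z span) := rfl
    rw [e] at h
    cases hc : sameB z s
    · rw [hc] at h
      obtain ⟨t, ht, he⟩ := ih (fun t ht => hs t (List.mem_cons_of_mem _ ht)) h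
      exact ⟨t, List.mem_cons_of_mem _ ht, he⟩
    · exact ⟨s, List.mem_cons_self, den_eq_of_same hz (hs s List.mem_cons_self) hc⟩

/-- Soundness of the bound on elementary abelian groups. -/
theorem smallB_sound (T : Finset (Equiv.Perm GolayPt)) (hT : ∀ x ∈ T, ∀ y ∈ T, x * y = y * x)
    (L : Finset ℕ) (hL : ∀ k ∈ L, ∀ c, rep24.Ok c → rep24.den c ∈ T → fixB c k = true) :
    ∀ (fuel : ℕ) (span cands F : List ℕ), smallB fuel span cands F = true →
      rep24.one ∈ span → (∀ c ∈ span ++ cands, rep24.Ok c) → (∀ x ∈ T, ∃ c ∈ span ++ cands, rep24.den c = x) →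
      (∀ k ∈ L, k ∈ F) → T.card * L.card < 2048 := by
  classical
  intro fuel
  induction fuel with
  | zero => intro span cands F h; exact absurd h (by simp [smallB])
  | succ fuel ih =>
    intro span cands F h hone hok hcov hF
    have e : smallB (fuel + 1) span cands F = (Nat.blt (span.length * F.length) 2048 &&
        (Nat.blt ((span.length + cands.length) * F.length) 2048 || loopB (smallB fuel) span F cands)) := rfl
    simp only [e, Bool.and_eq_true, Bool.or_eq_true, Nat.blt_eq] at h
    obtain ⟨h1, h2⟩ := h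
    have hLF : L.card ≤ F.length :=
      (Finset.card_le_card (fun k hk => List.mem_toFinset.2 (hF k hk))).trans (List.toFinset_card_le F)
    have bound : ∀ l : List ℕ, (∀ x ∈ T, ∃ c ∈ l, rep24.den c = x) → T.card * L.card ≤ l.length * F.length := by
      intro l hl
      refine Nat.mul_le_mul ?_ hLF
      refine le_trans (Finset.card_le_card (t := (l.map rep24.den).toFinset) fun x hx => ?_)
        ((List.toFinset_card_le _).trans (le_of_eq (List.length_map ..)))
      obtain ⟨c, hc, hcx⟩ := hl x hx
      exact List.mem_toFinset.2 (List.mem_map.2 ⟨c, hc, hcx⟩)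
    rcases h2 with h2 | h2
    · have := bound (span ++ cands) hcov
      rw [List.length_append] at this
      omega
    suffices ∀ l : List ℕ, loopB (smallB fuel) span F l = true → (∀ c ∈ l, rep24.Ok c) →
        (∀ x ∈ T, ∃ c ∈ span ++ l, rep24.den c = x) → T.card * L.card < 2048 from
      this cands h2 (fun c hc => hok c (List.mem_append_right _ hc)) hcov
    have hspan : ∀ c ∈ span, rep24.Ok c := fun c hc => hok c (List.mem_append_left _ hc)
    intro l
    induction l with
    | nil =>
      intro _ _ hl
      exact lt_of_le_of_lt (bound span (fun x hx => by simpa using hl x hx)) h1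
    | cons y rest ihl =>
      intro hl hlok hlcov
      have el : loopB (smallB fuel) span F (y :: rest) =
          (smallB fuel (span ++ span.map fun s => rep24.mul s y)
            (rest.filter fun z => cmB z y && newB z (span ++ span.map fun s => rep24.mul s y))
            (F.filter (fixB y)) && loopB (smallB fuel) span F rest) := rfl
      simp only [el, Bool.and_eq_true] at hl
      obtain ⟨hl1, hl2⟩ := hl
      have hy : rep24.Ok y := hlok y List.mem_cons_self
      have hrest : ∀ c ∈ rest, rep24.Ok c := fun c hc => hlok c (List.mem_cons_of_mem _ hc)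
      by_cases hyT : rep24.den y ∈ T
      · set span' := span ++ span.map fun s => rep24.mul s y with hspan'
        have hok' : ∀ c ∈ span', rep24.Ok c := by
          intro c hc
          rcases List.mem_append.1 hc with hc | hc
          · exact hspan c hc
          · obtain ⟨s, hs, rfl⟩ := List.mem_map.1 hc
            exact rep24.ok_mul _ _ (hspan s hs) hy
        refine ih span' _ _ hl1 (List.mem_append_left _ hone) ?_ ?_ fun k hk => List.mem_filter.2 ⟨hF k hk, hL k hk y hy hyT⟩
        · intro c hc
          rcases List.mem_append.1 hc with hc | hc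
          · exact hok' c hc
          · exact hrest c (List.mem_filter.1 hc).1
        · intro x hx
          obtain ⟨c, hc, rfl⟩ := hlcov x hx
          rcases List.mem_append.1 hc with hc | hc
          · exact ⟨c, List.mem_append_left _ (List.mem_append_left _ hc), rfl⟩
          rcases List.mem_cons.1 hc with rfl | hc
          · -- the new element itself
            cases hn : newB c span'
            · obtain ⟨s, hs, he⟩ := newB_false hy hok' hn
              exact ⟨s, List.mem_append_left _ hs, he.symm⟩
            · refine ⟨rep24.mul rep24.one c, List.mem_append_left _ (List.mem_append_right _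
                (List.mem_map.2 ⟨_, hone, rfl⟩)), ?_⟩
              rw [rep24.den_mul _ _ rep24.ok_one hy, rep24.den_one, one_mul]
          · cases hn : newB c span'
            · obtain ⟨s, hs, he⟩ := newB_false (hrest c hc) hok' hn
              exact ⟨s, List.mem_append_left _ hs, he.symm⟩
            · refine ⟨c, List.mem_append_right _ (List.mem_filter.2 ⟨hc, ?_⟩), rfl⟩
              rw [cmB_of_commute (hrest c hc) hy (hT _ hx _ hyT), hn]
              rfl
      · refine ihl hl2 hrest fun x hx => ?_
        obtain ⟨c, hc, rfl⟩ := hlcov x hx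
        rcases List.mem_append.1 hc with hc | hc
        · exact ⟨c, List.mem_append_left _ hc, rfl⟩
        rcases List.mem_cons.1 hc with rfl | hc
        · exact absurd hx hyT
        · exact ⟨c, List.mem_append_right _ hc, rfl⟩

end Cfsg.Agent.Co1Out
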