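import Cfsg.Agent.Co1Out.Code
import Cfsg.Agent.Leech.Sextet

/-!
A sextet element and the monomial elements that it conjugates into monomial elements.
-/

set_option autoImplicit false
set_option maxRecDepth 100000

namespace Cfsg.Agent.Co1Out

open Cfsg Cfsg.Agent.Compute

/-- The tetrad of a point. -/
def labList : List (Fin 6) := [0, 0, 0, 0, 1, 5, 3, 1, 2, 3, 1, 3, 1, 4, 5, 2, 2, 5, 4, 2, 4, 4, 3, 5]

/-- The tetrad of a point. -/
def labFn (p : GolayPt) : Fin 6 := labList.getD (ptIdx p) 0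

theorem labFn_card : ∀ k, (Finset.univ.filter fun i => labFn i = k).card = 4 := by decide +kernel

theorem labFn_pair : ∀ k, Leech.dec (fun i => (if labFn i = k then (1 : ZMod 2) else 0) + if labFn i = 0 then 1 else 0) =
    fun i => (if labFn i = k then (1 : ZMod 2) else 0) + if labFn i = 0 then 1 else 0 := by decide +kernel

/-- The sextet. -/
def sx : Leech.Sextet := ⟨labFn, labFn_card, fun k => (Leech.mem_iff _).2 (labFn_pair k)⟩

/-- The octads meeting every tetrad evenly. -/
def oc : Fin 7 → ℕ := ![15, 30, 35, 38, 133, 60, 261]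

theorem oc_lt : ∀ j, oc j < 2048 := by decide

/-- Two permutations stabilising the sextet and its first tetrad. -/
def sc : Fin 2 → ℕ := ![349471238899189759247693272863247424, 984493369334060478447889424982281248]

theorem sc_check : ∀ j : Fin 2, inM24B (sc j) = true := by decide +kernel

/-- The permutations. -/
noncomputable def sp (j : Fin 2) : ↥M24 := ⟨rep24.den (sc j), (mem_M24_of_check (sc_check j)).2⟩

theorem sc_lab : ∀ j : Fin 2, ∀ i k : Fin 24,
    (labFn (e24 ⟨getField 5 (sc j) i % 24, Nat.mod_lt _ (by norm_num)⟩) =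
      labFn (e24 ⟨getField 5 (sc j) k % 24, Nat.mod_lt _ (by norm_num)⟩) ↔ labFn (e24 i) = labFn (e24 k)) ∧
    (labFn (e24 ⟨getField 5 (sc j) i % 24, Nat.mod_lt _ (by norm_num)⟩) = 0 ↔ labFn (e24 i) = 0) := by
  decide +kernel

theorem sp_lab (j : Fin 2) (p q : GolayPt) :
    (labFn ((sp j : Equiv.Perm GolayPt) p) = labFn ((sp j : Equiv.Perm GolayPt) q) ↔ labFn p = labFn q) ∧
    (labFn ((sp j : Equiv.Perm GolayPt) p) = 0 ↔ labFn p = 0) := by
  have hok := (mem_M24_of_check (sc_check j)).1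
  have e : ∀ r, (sp j : Equiv.Perm GolayPt) (e24 r) = e24 ⟨getField 5 (sc j) r % 24, Nat.mod_lt _ (by norm_num)⟩ := by
    intro r
    refine ptIdx_injective ?_
    rw [ptIdx_e24, show (sp j : Equiv.Perm GolayPt) = rep24.den (sc j) from rfl, ptIdx_den hok, ptIdx_e24]
    exact (Nat.mod_eq_of_lt (rep24.act_lt _ _ hok r.2)).symm
  obtain ⟨a, rfl⟩ := e24.surjective p
  obtain ⟨b, rfl⟩ := e24.surjective q
  rw [e, e]
  exact sc_lab j a b

theorem tsum_comp (j : Fin 2) (x : GolayPt → ℤ) (q : GolayPt) :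
    sx.tsum (fun i => x ((sp j : Equiv.Perm GolayPt)⁻¹ i)) (labFn ((sp j : Equiv.Perm GolayPt) q)) =
      sx.tsum x (labFn q) := by
  refine Finset.sum_equiv (sp j : Equiv.Perm GolayPt)⁻¹ (fun i => ?_) (fun i _ => rfl)
  simp only [Finset.mem_filter, Finset.mem_univ, true_and]
  show labFn i = _ ↔ labFn ((sp j : Equiv.Perm GolayPt)⁻¹ i) = labFn q
  obtain ⟨r, rfl⟩ := (sp j : Equiv.Perm GolayPt).surjective i
  rw [Equiv.Perm.inv_def, Equiv.symm_apply_apply]
  exact (sp_lab j r q).1

/-- The permutations commute with the sextet element. -/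
theorem xi_perm (j : Fin 2) : sx.xi * permHom (sp j) = permHom (sp j) * sx.xi := by
  refine Leech.ext_of_oct fun i => Subtype.ext (funext fun r => ?_)
  obtain ⟨q, rfl⟩ := (sp j : Equiv.Perm GolayPt).surjective r
  rw [mul_smul, mul_smul, Leech.Sextet.xi_apply]
  show sx.xiFun (fun t => (Leech.oct i : GolayPt → ℤ) ((sp j : Equiv.Perm GolayPt)⁻¹ t)) _ =
    sx.xiFun (Leech.oct i : GolayPt → ℤ) ((sp j : Equiv.Perm GolayPt)⁻¹ _)
  rw [Equiv.Perm.inv_def, Equiv.symm_apply_apply]
  have h := tsum_comp j (Leech.oct i : GolayPt → ℤ) q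
  have heps : Leech.Sextet.eps (sx.lab ((sp j : Equiv.Perm GolayPt) q)) = Leech.Sextet.eps (sx.lab q) := by
    show Leech.Sextet.eps (labFn _) = Leech.Sextet.eps (labFn q)
    have h0 := (sp_lab j q q).2
    unfold Leech.Sextet.eps
    by_cases hq : labFn q = 0
    · rw [if_pos hq, if_pos (h0.2 hq)]
    · rw [if_neg hq, if_neg (fun e => hq (h0.1 e))]
  simp only [Leech.Sextet.xiFun, Equiv.symm_apply_apply, heps]
  have h' : sx.tsum (fun t => (Leech.oct i : GolayPt → ℤ) ((sp j : Equiv.Perm GolayPt).symm t))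
      (sx.lab ((sp j : Equiv.Perm GolayPt) q)) = sx.tsum (Leech.oct i : GolayPt → ℤ) (sx.lab q) := h
  rw [h']

/-- The image of a frame vector under a conjugated sign change. -/
noncomputable def imgVec (j : Fin 7) (i : GolayPt) : GolayPt → ℤ :=
  sx.xiFun (Leech.negOn (word (oc j)) (sx.xiFun (Pi.single i 8)))

theorem imgVec_shape : ∀ (j : Fin 7) (i : GolayPt), ∃ q, imgVec j i = Pi.single q 8 ∨ imgVec j i = Pi.single q (-8) := by
  intro j i
  obtain ⟨h1, h2⟩ := shape_check j i
  obtain ⟨q, hq⟩ := Finset.card_eq_one.1 h1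
  refine ⟨q, ?_⟩
  have hz : ∀ r ≠ q, imgVec j i r = 0 := fun r hr => by
    by_contra h
    have : r ∈ Finset.univ.filter (fun r => imgVec j i r ≠ 0) := Finset.mem_filter.2 ⟨Finset.mem_univ _, h⟩
    rw [hq, Finset.mem_singleton] at this
    exact hr this
  have hne : imgVec j i q ≠ 0 := by
    have : q ∈ Finset.univ.filter (fun r => imgVec j i r ≠ 0) := hq ▸ Finset.mem_singleton_self q
    exact (Finset.mem_filter.1 this).2
  rcases h2 q with h | h | h
  · exact absurd h hne
  · left; funext r; by_cases hr : r = q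
    · subst hr; simp [h]
    · rw [hz r hr, Pi.single_eq_of_ne hr]
  · right; funext r; by_cases hr : r = q
    · subst hr; simp [h]
    · rw [hz r hr, Pi.single_eq_of_ne hr]
where
  shape_check : ∀ (j : Fin 7) (i : GolayPt), (Finset.univ.filter fun r => imgVec j i r ≠ 0).card = 1 ∧
      ∀ r, imgVec j i r = 0 ∨ imgVec j i r = 8 ∨ imgVec j i r = -8 := by decide +kernel

theorem weight_differ : ∀ j, ∑ q, ((word (oc j)) q).val ≠ ∑ q, ((word (oc j ^^^ 2048)) q).val := by decide +kernel

theorem separates : ∀ p q : GolayPt, (∀ j, word (oc j) p = word (oc j) q) → p = q := by decide +kernel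

theorem sc_fix : allBelow 2048 (fun k => Nat.beq k 0 || !(fixB (sc 0) k) || !(fixB (sc 1) k)) = true := by decide +kernel

end Cfsg.Agent.Co1Out
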