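import Cfsg.Agent.Co1Out.Cocycle
import Cfsg.Agent.Co1Out.Sextet

/-!
Every automorphism of `Co₁` is inner.
-/

set_option autoImplicit false

namespace Cfsg.Agent.Co1Out

open Cfsg Cfsg.Agent.Compute

/-- The image of the sextet element. -/
noncomputable def xiC : Spor.Co1 := toC sx.xi

theorem xi_sq : sx.xi * sx.xi = 1 := by
  refine Leech.ext_of_oct fun i => Subtype.ext ?_
  rw [mul_smul, one_smul, Leech.Sextet.xi_apply, Leech.Sextet.xi_apply,
    sx.xiFun_xiFun (Leech.oct i).2]

theorem xiC_sq : xiC * xiC = 1 := by rw [xiC, ← map_mul, xi_sq, map_one]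

theorem xiC_inv : xiC⁻¹ = xiC := inv_eq_of_mul_eq_one_right xiC_sq

theorem conj_sign_mem (j : Fin 7) : xiC * Sg (oc j) * xiC⁻¹ ∈ Nm ⊤ := by
  rw [xiC_inv, xiC, Sg, ← map_mul, ← map_mul, ← keepsCross_iff]
  have key : ∀ i, (((sx.xi * sign0 (oc j) * sx.xi) • Leech.oct i : leechLattice) : GolayPt → ℤ) ∈ stdCross := by
    intro i
    have e : (((sx.xi * sign0 (oc j) * sx.xi) • Leech.oct i : leechLattice) : GolayPt → ℤ) = imgVec j i := by
      rw [mul_smul, mul_smul, Leech.Sextet.xi_apply]
      show sx.xiFun (Leech.negOn (word (oc j)) _) = _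
      rw [Leech.Sextet.xi_apply]
      rfl
    rw [e]
    obtain ⟨q, hq | hq⟩ := imgVec_shape j i
    · exact ⟨q, 8, Or.inl rfl, hq⟩
    · exact ⟨q, -8, Or.inr rfl, hq⟩
  obtain ⟨σ, hσ, c, hc, he⟩ := Leech.exists_of_stdFrame _ key
  rw [he]
  exact (Leech.keepsCross_sign hc).mul (Leech.keepsCross_perm hσ)

theorem conj_perm_mem (j : Fin 2) : xiC * Pm (sp j) * xiC⁻¹ ∈ Nm ⊤ := by
  rw [show xiC * Pm (sp j) = Pm (sp j) * xiC from
    (map_mul toC _ _).symm.trans ((congrArg toC (xi_perm j)).trans (map_mul toC _ _)), mul_inv_cancel_right]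
  exact Pm_mem (Subgroup.mem_top _)

theorem xiC_not_mem : xiC ∉ Nm ⊤ := by
  intro h
  have hk : Leech.KeepsCross sx.xi := (keepsCross_iff _).2 h
  obtain ⟨q, s, hs, he⟩ := hk (Leech.oct none) ⟨none, 8, Or.inl rfl, rfl⟩
  rw [Leech.Sextet.xi_apply] at he
  have h0 : ∀ r, sx.xiFun (Pi.single none 8) r = 0 ∨ r = q := fun r => by
    by_cases hr : r = q
    · exact Or.inr hr
    · exact Or.inl (by rw [show sx.xiFun (Pi.single none 8) = _ from he, Pi.single_eq_of_ne hr])
  have h1 : sx.xiFun (Pi.single none 8) none ≠ 0 ∧ ∃ r, r ≠ none ∧ sx.xiFun (Pi.single none 8) r ≠ 0 := by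
    decide +kernel
  obtain ⟨h2, r, hr, h3⟩ := h1
  exact hr (((h0 r).resolve_left h3).trans ((h0 none).resolve_left h2).symm)

/-- An element commuting with the chosen sign changes is a monomial. -/
theorem mem_Nm_of_commute {u : Spor.Co1} (hu : ∀ j, u * Sg (oc j) = Sg (oc j) * u) : u ∈ Nm ⊤ := by
  obtain ⟨g, rfl⟩ := QuotientGroup.mk'_surjective _ u
  rw [← keepsCross_iff]
  have hc : ∀ (i : GolayPt) (j : Fin 7) (q r : GolayPt), ((g • Leech.oct i : leechLattice) : GolayPt → ℤ) q ≠ 0 →
      ((g • Leech.oct i : leechLattice) : GolayPt → ℤ) r ≠ 0 → word (oc j) q = word (oc j) r := by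
    intro i j
    -- the sign change multiplies the vector by one sign
    obtain ⟨s, hs⟩ : ∃ s : ℤ, ∀ q, Leech.negOn (word (oc j)) ((g • Leech.oct i : leechLattice) : GolayPt → ℤ) q =
        s * ((g • Leech.oct i : leechLattice) : GolayPt → ℤ) q := by
      have h : toC (g * sign0 (oc j)) = toC (sign0 (oc j) * g) := by rw [map_mul, map_mul]; exact hu j
      have hd : ∃ t : ℤ, sign0 (oc j) • Leech.oct i = Leech.oct i ∧ t = 1 ∨
          sign0 (oc j) • Leech.oct i = -Leech.oct i ∧ t = -1 := by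
        have he : ((sign0 (oc j) • Leech.oct i : leechLattice) : GolayPt → ℤ) =
            Leech.negOn (word (oc j)) (Pi.single i 8) := rfl
        by_cases hz : word (oc j) i = 0
        · refine ⟨1, Or.inl ⟨Subtype.ext (funext fun q => ?_), rfl⟩⟩
          rw [he]
          by_cases hq : q = i
          · subst hq; simp [Leech.negOn, hz, Leech.oct]
          · simp [Leech.negOn, Leech.oct, Pi.single_eq_of_ne hq]
        · refine ⟨-1, Or.inr ⟨Subtype.ext (funext fun q => ?_), rfl⟩⟩
          rw [he]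
          by_cases hq : q = i
          · subst hq; simp [Leech.negOn, hz, Leech.oct]
          · simp [Leech.negOn, Leech.oct, Pi.single_eq_of_ne hq]
      obtain ⟨t, ht⟩ := hd
      rcases toC_eq_iff.1 h with e | e
      · refine ⟨t, fun q => ?_⟩
        have e' := congrArg (fun x : ↥Co0 => ((x • Leech.oct i : leechLattice) : GolayPt → ℤ) q) e
        simp only [mul_smul] at e'
        rw [show Leech.negOn (word (oc j)) ((g • Leech.oct i : leechLattice) : GolayPt → ℤ) q =
          ((sign0 (oc j) • g • Leech.oct i : leechLattice) : GolayPt → ℤ) q from rfl, e']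
        rcases ht with ⟨ht, rfl⟩ | ⟨ht, rfl⟩ <;> rw [ht] <;> simp [Leech.smul_neg']
      · refine ⟨-t, fun q => ?_⟩
        have e' := congrArg (fun x : ↥Co0 => ((x • Leech.oct i : leechLattice) : GolayPt → ℤ) q) e
        simp only [mul_smul, Leech.zneg_smul] at e'
        rw [show Leech.negOn (word (oc j)) ((g • Leech.oct i : leechLattice) : GolayPt → ℤ) q =
          ((sign0 (oc j) • g • Leech.oct i : leechLattice) : GolayPt → ℤ) q from rfl, e']
        rcases ht with ⟨ht, rfl⟩ | ⟨ht, rfl⟩ <;> simp [Leech.smul_neg', ht]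
    intro q r hq hr
    have h1 := hs q
    have h2 := hs r
    simp only [Leech.negOn] at h1 h2
    have hz : ∀ a : ZMod 2, a = 0 ∨ a = 1 := by decide
    rcases hz (word (oc j) q) with ha | ha <;> rcases hz (word (oc j) r) with hb | hb <;>
      simp only [ha, hb, one_ne_zero, if_true, if_false] at h1 h2 ⊢
    · exfalso
      have e1 : s = 1 := mul_right_cancel₀ hq (by rw [one_mul]; exact h1.symm)
      subst e1
      omega
    · exfalso
      have e1 : s = 1 := mul_right_cancel₀ hr (by rw [one_mul]; exact h2.symm)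
      subst e1
      omega
  obtain ⟨σ, hσ, c, hcc, he⟩ := Leech.exists_of_stdFrame g fun i => by
    set x := ((g • Leech.oct i : leechLattice) : GolayPt → ℤ) with hx
    have hn : sqNorm x = 64 := by
      rw [hx, Leech.sqNorm_smul]
      show sqNorm (Pi.single i 8 : GolayPt → ℤ) = 64
      simp only [sqNorm]
      rw [Finset.sum_eq_single i (fun b _ hb => by simp [hb]) (by simp)]
      simp
    obtain ⟨q, hq⟩ : ∃ q, x q ≠ 0 := by
      by_contra h
      push Not at h
      simp [sqNorm, h] at hn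
    have hz : ∀ r ≠ q, x r = 0 := fun r hr => by
      by_contra h
      exact hr (separates r q fun j => hc i j r q h hq)
    have hsq : x q ^ 2 = 64 := by
      rw [sqNorm, Finset.sum_eq_single q (fun b _ hb => by rw [hz b hb]; ring) (by simp)] at hn
      exact hn
    refine ⟨q, x q, ?_, funext fun r => ?_⟩
    · have h8 : (x q - 8) * (x q + 8) = 0 := by linear_combination hsq
      rcases mul_eq_zero.1 h8 with h | h
      · exact Or.inl (by omega)
      · exact Or.inr (by omega)
    · by_cases hr : r = q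
      · subst hr; simp
      · rw [hz r hr, Pi.single_eq_of_ne hr]
  rw [he]
  exact (Leech.keepsCross_sign hcc).mul (Leech.keepsCross_perm hσ)

/-- Only the identity commutes with the chosen elements. -/
theorem eq_one_of_commute {u : Spor.Co1} (hu : ∀ j, u * Sg (oc j) = Sg (oc j) * u)
    (hp : ∀ j, u * Pm (sp j) = Pm (sp j) * u) : u = 1 := by
  obtain ⟨e, he, σ, -, rfl⟩ := mem_Nm_of_commute hu
  have hσ : σ = 1 := by
    refine Subtype.ext (Equiv.ext fun p => ?_)
    refine separates _ _ fun j => ?_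
    have hk : oc j < 4096 := by have := oc_lt j; omega
    obtain ⟨k', hk', hc, hw⟩ := exists_conj σ hk
    rw [mul_inv_eq_iff_eq_mul] at hc
    have h := hu j
    rw [mul_assoc, show Pm σ * Sg (oc j) = Sg k' * Pm σ from
      (map_mul toC _ _).symm.trans ((congrArg toC hc).trans (map_mul toC _ _)),
      ← mul_assoc, ← mul_assoc, ← Sg_xor he hk', ← Sg_xor hk he] at h
    have hm := (Pm_eq_Sg (xor_lt he hk') (xor_lt hk he) h).2
    have hm' : k' % 2048 = oc j := by
      rw [show (2048 : ℕ) = 2 ^ 11 from rfl, Nat.xor_mod_two_pow, Nat.xor_mod_two_pow, Nat.xor_comm (oc j % 2 ^ 11),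
        Nat.mod_eq_of_lt (show oc j < 2 ^ 11 from oc_lt j)] at hm
      exact Nat.xor_right_injective hm
    have hkey : k' = oc j ∨ k' = oc j ^^^ 2048 := by
      by_cases h2 : k' < 2048
      · left; rwa [Nat.mod_eq_of_lt h2] at hm'
      · right
        have : (oc j) ^^^ 2048 = oc j + 2048 :=
          Nat.beq_eq.mp (allBelow_eq_true.mp flip_check _ (oc_lt j))
        rw [this]; omega
    rcases hkey with rfl | rfl
    · have := congrFun hw ((σ : Equiv.Perm GolayPt) p)
      simp only [Equiv.Perm.inv_def, Equiv.symm_apply_apply] at this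
      simpa using this
    · exfalso
      refine weight_differ j ?_
      rw [hw]
      exact (Equiv.sum_comp (σ : Equiv.Perm GolayPt)⁻¹ (fun q => (word (oc j) q).val)).symm
  subst hσ
  rw [map_one, mul_one] at hu hp ⊢
  rw [← Sg_mod he] at hp ⊢
  have hlt : e % 2048 < 2048 := Nat.mod_lt _ (by norm_num)
  have h := allBelow_eq_true.mp sc_fix (e % 2048) hlt
  rw [fixB_of_commute (mem_M24_of_check (sc_check 0)).1 (σ := sp 0) rfl hlt (hp 0).symm,
    fixB_of_commute (mem_M24_of_check (sc_check 1)).1 (σ := sp 1) rfl hlt (hp 1).symm] at h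
  simp only [Bool.not_true, Bool.or_false, Nat.beq_eq] at h
  rw [h, Sg_zero]

/-- Every automorphism is inner. -/
theorem card_out : Nat.card (Cfsg.Out Spor.Co1) = 1 := by
  have all : ∀ φ : MulAut Spor.Co1, φ ∈ Inn Spor.Co1 := by
    intro φ
    obtain ⟨g1, hE, hN⟩ := exists_adjust φ
    obtain ⟨g2, hg2, hP⟩ := exists_perm_adjust _ hE hN
    have hE2 : ∀ x ∈ Eg, (cj g2 * (cj g1 * φ)) x ∈ Eg := fun x hx =>
      (Subgroup.mem_normalizer_iff.1 (Eg_normal_in hg2) _).1 (hE x hx)
    obtain ⟨g3, -, hfix⟩ := exists_fix _ hE2 hP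
    set χ : MulAut Spor.Co1 := cj g3 * (cj g2 * (cj g1 * φ)) with hχ
    have hxi : χ xiC = xiC := by
      have key : ∀ l ∈ Nm ⊤, xiC * l * xiC⁻¹ ∈ Nm ⊤ → (xiC⁻¹ * χ xiC) * l = l * (xiC⁻¹ * χ xiC) := by
        intro l hl hm
        have h := hfix _ hm
        rw [map_mul, map_mul, map_inv, hfix _ hl] at h
        calc (xiC⁻¹ * χ xiC) * l = xiC⁻¹ * (χ xiC * l * (χ xiC)⁻¹) * χ xiC := by group
          _ = _ := by rw [h]; group
      have := eq_one_of_commute
        (fun j => key _ (Nm_mono bot_le (Sg_mem (by have := oc_lt j; omega))) (conj_sign_mem j))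
        (fun j => key _ (Pm_mem (Subgroup.mem_top _)) (conj_perm_mem j))
      exact (inv_mul_eq_one.1 this).symm
    have hlt : Nm ⊤ < χ.toMonoidHom.eqLocus (MonoidHom.id _) :=
      lt_of_le_of_ne (fun x hx => hfix x hx) fun e => xiC_not_mem (e.symm ▸ (show xiC ∈ χ.toMonoidHom.eqLocus (MonoidHom.id Spor.Co1) from hxi))
    have h1 : χ = 1 := MulEquiv.ext fun x => by
      have : x ∈ χ.toMonoidHom.eqLocus (MonoidHom.id _) := by rw [isCoatom_Nm.2 _ hlt]; exact Subgroup.mem_top _
      exact this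
    have e : φ = MulAut.conj ((g3 * g2 * g1)⁻¹) := by
      rw [map_inv, eq_inv_iff_mul_eq_one, map_mul, map_mul]
      have h2 : MulAut.conj g3 * MulAut.conj g2 * MulAut.conj g1 * φ = 1 := by
        rw [mul_assoc, mul_assoc]; exact h1
      exact mul_eq_one_comm.1 h2
    exact ⟨_, e.symm⟩
  have : Subsingleton (Cfsg.Out Spor.Co1) := QuotientGroup.subsingleton_iff.2 (eq_top_iff.2 fun φ _ => all φ)
  exact Nat.card_unique

end Cfsg.Agent.Co1Out
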