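import Cfsg.Agent.Co1Out.Hom

/-!
The subgroups of `Co₁` made of sign changes and a group of coordinate permutations.
-/

set_option autoImplicit false

namespace Cfsg.Agent.Co1Out

open Cfsg Cfsg.Agent.Compute

theorem xor_lt {a b : ℕ} (ha : a < 4096) (hb : b < 4096) : a ^^^ b < 4096 :=
  Nat.xor_lt_two_pow (n := 12) ha hb

/-- Permutations carry sign changes to sign changes. -/
theorem exists_conj (σ : ↥M24) {k : ℕ} (_hk : k < 4096) :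
    ∃ k' < 4096, permHom σ * sign0 k * (permHom σ)⁻¹ = sign0 k' ∧
      word k' = fun p => word k ((σ : Equiv.Perm GolayPt)⁻¹ p) := by
  have hmem := Leech.comp_mem_of_M24 (inv_mem σ.2) (word_mem k)
  obtain ⟨k', hk', he⟩ := (mem_golayCode_iff _).1 hmem
  have hw : word k' = fun p => word k ((σ : Equiv.Perm GolayPt)⁻¹ p) := by
    rw [word, Nat.mod_eq_of_lt hk', ← he]; rfl
  exact ⟨k', hk', (Leech.conj_perm_sign _ σ.2 _ (word_mem k)).trans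
    (Leech.signCo0_congr hw.symm _ (word_mem k')), hw⟩

theorem Pm_Sg (σ : ↥M24) {k : ℕ} (hk : k < 4096) :
    ∃ k' < 4096, Pm σ * Sg k = Sg k' * Pm σ := by
  obtain ⟨k', hk', he, -⟩ := exists_conj σ hk
  refine ⟨k', hk', ?_⟩
  rw [mul_inv_eq_iff_eq_mul] at he
  exact (map_mul toC _ _).symm.trans ((congrArg toC he).trans (map_mul toC _ _))

theorem Pm_eq_Sg {a b : ℕ} (ha : a < 4096) (hb : b < 4096) {σ τ : ↥M24}
    (h : Sg a * Pm σ = Sg b * Pm τ) : σ = τ ∧ a % 2048 = b % 2048 := by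
  have h' : toC (sign0 a * permHom σ) = toC (sign0 b * permHom τ) := by
    rw [map_mul, map_mul]; exact h
  rcases toC_eq_iff.1 h' with e | e
  · obtain ⟨h1, h2⟩ := monomial_inj hb ha e
    exact ⟨h2.symm, by rw [h1]⟩
  · rw [← sign0_full, mul_assoc] at e
    obtain ⟨k', hk', hc, hw⟩ := exists_conj σ (k := 2048) (by norm_num)
    have hk2 : k' = 2048 := word_inj hk' (by norm_num) (by rw [hw, word_full]; rfl)
    rw [hk2, mul_inv_eq_iff_eq_mul] at hc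
    rw [hc, ← mul_assoc, ← sign0_xor ha (by norm_num)] at e
    obtain ⟨h1, h2⟩ := monomial_inj hb (xor_lt ha (by norm_num)) e
    refine ⟨h2.symm, ?_⟩
    rw [h1, show (a ^^^ 2048) % 2048 = a % 2048 from ?_]
    rw [show (2048 : ℕ) = 2 ^ 11 from rfl, Nat.xor_mod_two_pow, Nat.mod_self, Nat.xor_zero]

/-- Sign changes times the permutations of a group. -/
def Nm (K : Subgroup ↥M24) : Subgroup Spor.Co1 where
  carrier := {x | ∃ k < 4096, ∃ σ ∈ K, x = Sg k * Pm σ}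
  one_mem' := ⟨0, by norm_num, 1, one_mem _, by rw [Sg_zero, map_one, one_mul]⟩
  mul_mem' := by
    rintro _ _ ⟨a, ha, σ, hσ, rfl⟩ ⟨b, hb, τ, hτ, rfl⟩
    obtain ⟨b', hb', he⟩ := Pm_Sg σ hb
    refine ⟨a ^^^ b', xor_lt ha hb', σ * τ, mul_mem hσ hτ, ?_⟩
    rw [Sg_xor ha hb', map_mul]
    calc Sg a * Pm σ * (Sg b * Pm τ) = Sg a * (Pm σ * Sg b) * Pm τ := by group
      _ = _ := by rw [he]; group
  inv_mem' := by
    rintro _ ⟨a, ha, σ, hσ, rfl⟩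
    obtain ⟨a', ha', he⟩ := Pm_Sg σ⁻¹ ha
    exact ⟨a', ha', σ⁻¹, inv_mem hσ, by rw [mul_inv_rev, Sg_inv ha, ← map_inv, he]⟩

theorem mem_Nm {K : Subgroup ↥M24} {x : Spor.Co1} :
    x ∈ Nm K ↔ ∃ k < 4096, ∃ σ ∈ K, x = Sg k * Pm σ := Iff.rfl

theorem Nm_mono {K L : Subgroup ↥M24} (h : K ≤ L) : Nm K ≤ Nm L := by
  rintro _ ⟨k, hk, σ, hσ, rfl⟩
  exact ⟨k, hk, σ, h hσ, rfl⟩

/-- The sign changes. -/
abbrev Eg : Subgroup Spor.Co1 := Nm ⊥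

theorem mem_Eg {x : Spor.Co1} : x ∈ Eg ↔ ∃ k < 2048, x = Sg k := by
  constructor
  · rintro ⟨k, hk, σ, hσ, rfl⟩
    rw [Subgroup.mem_bot.1 hσ, map_one, mul_one]
    exact ⟨k % 2048, Nat.mod_lt _ (by norm_num), (Sg_mod hk).symm⟩
  · rintro ⟨k, hk, rfl⟩
    exact ⟨k, by omega, 1, one_mem _, by rw [map_one, mul_one]⟩

theorem Sg_mem {k : ℕ} (hk : k < 4096) : Sg k ∈ Eg := ⟨k, hk, 1, one_mem _, by rw [map_one, mul_one]⟩

theorem Pm_mem {K : Subgroup ↥M24} {σ : ↥M24} (h : σ ∈ K) : Pm σ ∈ Nm K :=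
  ⟨0, by norm_num, σ, h, by rw [Sg_zero, one_mul]⟩

theorem card_Nm (K : Subgroup ↥M24) : Nat.card (Nm K) = 2048 * Nat.card K := by
  rw [← Nat.card_fin 2048, ← Nat.card_prod, eq_comm]
  refine Nat.card_congr (Equiv.ofBijective
    (fun p : Fin 2048 × K => (⟨Sg p.1 * Pm p.2.1, p.1, by omega, p.2.1, p.2.2, rfl⟩ : Nm K)) ⟨?_, ?_⟩)
  · rintro ⟨i, σ⟩ ⟨j, τ⟩ h
    obtain ⟨h1, h2⟩ := Pm_eq_Sg (by omega) (by omega) (congrArg Subtype.val h)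
    rw [Nat.mod_eq_of_lt i.2, Nat.mod_eq_of_lt j.2] at h2
    exact Prod.ext (Fin.ext h2) (Subtype.ext h1)
  · rintro ⟨_, k, hk, σ, hσ, rfl⟩
    exact ⟨(⟨k % 2048, Nat.mod_lt _ (by norm_num)⟩, ⟨σ, hσ⟩), Subtype.ext (by show Sg (k % 2048) * Pm σ = _; rw [Sg_mod hk])⟩

theorem card_Eg : Nat.card Eg = 2048 := by rw [card_Nm, Subgroup.card_bot, mul_one]

theorem card_M24 : Nat.card ↥M24 = 244823040 := Compute.card_m24

theorem card_top_Nm : Nat.card (Nm ⊤) = 2048 * 244823040 := by rw [card_Nm, Subgroup.card_top, card_M24]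

theorem Eg_normal_in : Nm ⊤ ≤ Subgroup.normalizer (Eg : Set Spor.Co1) := by
  have key : ∀ x ∈ Nm ⊤, ∀ y ∈ Eg, x * y * x⁻¹ ∈ Eg := by
    rintro _ ⟨a, ha, σ, -, rfl⟩ y hy
    obtain ⟨b, hb, rfl⟩ := mem_Eg.1 hy
    obtain ⟨b', hb', he⟩ := Pm_Sg σ (show b < 4096 by omega)
    rw [show Sg a * Pm σ * Sg b * (Sg a * Pm σ)⁻¹ = Sg a * (Pm σ * Sg b) * (Pm σ)⁻¹ * (Sg a)⁻¹ by group,
      he, show Sg a * (Sg b' * Pm σ) * (Pm σ)⁻¹ * (Sg a)⁻¹ = Sg a * Sg b' * (Sg a)⁻¹ by group, Sg_inv ha,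
      ← Sg_xor ha hb', ← Sg_xor (xor_lt ha hb') ha]
    exact Sg_mem (xor_lt (xor_lt ha hb') ha)
  intro x hx
  rw [Subgroup.mem_normalizer_iff]
  refine fun y => ⟨fun hy => key x hx y hy, fun hy => ?_⟩
  have := key x⁻¹ (inv_mem hx) _ hy
  rwa [show x⁻¹ * (x * y * x⁻¹) * x⁻¹⁻¹ = y by group] at this

theorem Sg_comm {a b : ℕ} (ha : a < 4096) (hb : b < 4096) : Sg a * Sg b = Sg b * Sg a := by
  rw [← Sg_xor ha hb, ← Sg_xor hb ha, Nat.xor_comm]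

end Cfsg.Agent.Co1Out
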