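import Cfsg.Agent.Co1Out.Sylow
import Cfsg.Agent.S1572

/-!
Automorphisms of `Co₁` may be moved to preserve the sign changes and the monomial group.
-/

set_option autoImplicit false

namespace Cfsg.Agent.Co1Out

open Cfsg Cfsg.Agent.Compute

theorem keepsCross_iff (g : ↥Co0) : Leech.KeepsCross g ↔ toC g ∈ Nm ⊤ := by
  constructor
  · intro hg
    obtain ⟨σ, hσ, c, hc, rfl⟩ := Leech.exists_of_stdFrame g fun i => hg (Leech.oct i) ⟨i, 8, Or.inl rfl, rfl⟩
    obtain ⟨k, hk, rfl⟩ := (mem_golayCode_iff c).1 hc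
    refine ⟨k, hk, ⟨σ, hσ⟩, Subgroup.mem_top _, (map_mul toC _ _).trans ?_⟩
    exact congrArg (fun x => toC x * Pm ⟨σ, hσ⟩)
      (Leech.signCo0_congr (show decW (cw k) = word k by rw [word, Nat.mod_eq_of_lt hk]) hc (word_mem k))
  · rintro ⟨k, hk, σ, -, he⟩
    have h' : toC g = toC (sign0 k * permHom σ) := by rw [map_mul]; exact he
    have hkp : Leech.KeepsCross (sign0 k * permHom σ) :=
      (Leech.keepsCross_sign (word_mem k)).mul (Leech.keepsCross_perm σ.2)
    rcases toC_eq_iff.1 h' with e | e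
    · rwa [← e]
    · have : g = sign0 k * permHom σ * Leech.zneg := by rw [e, mul_assoc, ← pow_two, Leech.zneg_sq, mul_one]
      rw [this]
      exact hkp.mul (Leech.keepsCross_sign Leech.one_mem)

theorem isCoatom_Nm : IsCoatom (Nm ⊤) := by
  have hc := S1572.result ((Nm ⊤).comap toC) (Set.ext fun g => (keepsCross_iff g).symm)
  have hs : Function.Surjective toC := QuotientGroup.mk'_surjective _
  refine ⟨fun h => hc.1 (by rw [h, Subgroup.comap_top]), fun K hK => ?_⟩
  have hlt : (Nm ⊤).comap toC < K.comap toC := by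
    refine lt_of_le_of_ne (Subgroup.comap_mono hK.le) fun e => hK.ne ?_
    exact Subgroup.comap_injective hs e
  have := hc.2 _ hlt
  exact Subgroup.comap_injective hs (this.trans (Subgroup.comap_top _).symm)

theorem normalizer_Eg : Subgroup.normalizer (Eg : Set Spor.Co1) = Nm ⊤ := by
  rcases lt_or_eq_of_le Eg_normal_in with h | h
  · exfalso
    have htop := isCoatom_Nm.2 _ h
    have : Eg.Normal := Subgroup.normalizer_eq_top_iff.1 htop
    rcases simple_co1.eq_bot_or_eq_top_of_normal Eg this with e | e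
    · have := card_Eg; rw [e, Subgroup.card_bot] at this; omega
    · have := card_Eg; rw [e, Subgroup.card_top, card_co1] at this; omega
  · exact h.symm

/-- The conjugation automorphism. -/
abbrev cj (g : Spor.Co1) : MulAut Spor.Co1 := MulAut.conj g

/-- Every automorphism is an inner one times one preserving the sign changes. -/
theorem exists_adjust (φ : MulAut Spor.Co1) :
    ∃ g : Spor.Co1, (∀ x ∈ Eg, (cj g * φ) x ∈ Eg) ∧ ∀ x ∈ Nm ⊤, (cj g * φ) x ∈ Nm ⊤ := by
  have : Fact (Nat.Prime 2) := ⟨Nat.prime_two⟩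
  let P' : Sylow 2 Spor.Co1 := Sylow.ofCard ((Nm Ks).map φ.toMonoidHom) (by
    rw [Subgroup.card_map_of_injective φ.injective, sylow_card])
  obtain ⟨g, hg⟩ := MulAction.exists_smul_eq Spor.Co1 P' sylCo
  refine ⟨g, ?_⟩
  set ψ : MulAut Spor.Co1 := cj g * φ with hψdef
  have hS : (Nm Ks).map ψ.toMonoidHom = Nm Ks := by
    have h := congrArg (fun P : Sylow 2 Spor.Co1 => (P : Subgroup Spor.Co1)) hg
    simp only [coe_sylCo] at h
    have e : ψ.toMonoidHom = (MulAut.conj g).toMonoidHom.comp φ.toMonoidHom := MonoidHom.ext fun _ => rfl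
    rw [e, ← Subgroup.map_map]
    exact h
  have hE : Eg ≤ Nm Ks := Nm_mono bot_le
  have hmap : Eg.map ψ.toMonoidHom = Eg := by
    refine eq_Eg ((Subgroup.map_mono hE).trans hS.le) ?_ ?_ ?_ ?_
    · rintro _ ⟨x, hx, rfl⟩ _ ⟨y, hy, rfl⟩
      obtain ⟨a, ha, rfl⟩ := mem_Eg.1 hx
      obtain ⟨b, hb, rfl⟩ := mem_Eg.1 hy
      rw [← map_mul, ← map_mul, Sg_comm (by omega) (by omega)]
    · rintro _ ⟨x, hx, rfl⟩
      obtain ⟨a, ha, rfl⟩ := mem_Eg.1 hx
      rw [← map_mul, Sg_sq (by omega), map_one]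
    · rw [Subgroup.card_map_of_injective ψ.injective, card_Eg]
    · intro x hx a ha
      obtain ⟨x', hx', rfl⟩ := hS.ge hx
      obtain ⟨a', ha', rfl⟩ := ha
      refine ⟨x' * a' * x'⁻¹, ?_, by simp⟩
      exact (Subgroup.mem_normalizer_iff.1 (Eg_normal_in (Nm_mono le_top hx')) a').1 ha'
  have hfor : ∀ x ∈ Eg, ψ x ∈ Eg := fun x hx => hmap.le ⟨x, hx, rfl⟩
  refine ⟨hfor, fun x hx => ?_⟩
  rw [← normalizer_Eg, Subgroup.mem_normalizer_iff]
  intro y
  obtain ⟨y', rfl⟩ := ψ.surjective y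
  rw [← map_inv, ← map_mul, ← map_mul]
  have hiff : ∀ z, ψ z ∈ Eg ↔ z ∈ Eg := fun z => ⟨fun h => by
    obtain ⟨w, hw, he⟩ := hmap.ge h
    rwa [← ψ.injective he], hfor z⟩
  rw [hiff, hiff]
  exact Subgroup.mem_normalizer_iff.1 (Eg_normal_in hx) y'

end Cfsg.Agent.Co1Out
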